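import Cfsg.Agent.SplitRankOne.Regular
import Cfsg.Agent.SEmbed.RankOneBridge
import Cfsg.Prelude.Def_LieExceptional

/-!
# Simple groups with a strongly split rank one pair of odd type

`bn_classification`: given Suzuki's theorem on rank one set-ups (with the fact that the kernels are
2-groups), a finite simple group with a strongly split rank one pair, `[G : B]` and `|B ∩ N|` odd, is
`PSL₂(2^n)`, a Suzuki group or `PSU₃(2^n)`.
-/

set_option autoImplicit false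
set_option linter.style.haveILetI false
set_option linter.unusedSectionVars false

namespace CfsgLib.SplitRankOne

open MulAction

universe u v

variable {G : Type u} [Group G]

/-- A rank one pair with a nilpotent normal complement gives a split doubly transitive action. -/
theorem split_of_bnPair [Finite G] (P : Cfsg.BNPair G) (hrank : P.rank = 1) (U : Subgroup G)
    (hUB : U ≤ P.B) (hUn : (U.subgroupOf P.B).Normal) (hUnil : Group.IsNilpotent U)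
    (hsplit : U ⊔ (P.B ⊓ P.N) = P.B) (hH : Odd (Nat.card ↥(P.B ⊓ P.N))) :
    P.B ≠ ⊤ ∧ Split ((1 : G) : G ⧸ P.B) U := by
  classical
  obtain ⟨hsub, ⟨⟨w, hw⟩⟩⟩ := Nat.card_eq_one_iff_unique.1 hrank
  have hS : ∀ s ∈ P.S, s = w := fun s hs => congrArg Subtype.val (hsub.elim ⟨s, hs⟩ ⟨w, hw⟩)
  have hwN : w ∈ P.N := P.subset hw
  have hwB : w ∉ P.B := fun h => P.conj_ne w hw (by
    refine Set.Subset.antisymm (Set.image_subset_iff.2 fun b hb => mul_mem (mul_mem h hb) h)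
      fun b hb => ⟨w⁻¹ * b * w⁻¹, mul_mem (mul_mem (inv_mem h) hb) (inv_mem h), by group⟩)
  have hBtop : P.B ≠ ⊤ := fun h => hwB (h ▸ Subgroup.mem_top w)
  refine ⟨hBtop, ?_⟩
  have hww : w * w ∈ P.B ⊓ P.N := ⟨P.sq_mem w hw, mul_mem hwN hwN⟩
  -- `N = T ∪ w T`
  have hNdec : ∀ n ∈ P.N, n ∈ P.B ∨ w⁻¹ * n ∈ P.B := by
    let H : Subgroup G :=
      { carrier := {n | n ∈ P.N ∧ (n ∈ P.B ∨ w⁻¹ * n ∈ P.B)}
        one_mem' := ⟨one_mem _, Or.inl (one_mem _)⟩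
        mul_mem' := by
          rintro m n ⟨hm, hm'⟩ ⟨hn, hn'⟩
          refine ⟨mul_mem hm hn, ?_⟩
          rcases hm' with hm' | hm' <;> rcases hn' with hn' | hn'
          · exact Or.inl (mul_mem hm' hn')
          · refine Or.inr ?_
            rw [show w⁻¹ * (m * n) = (w⁻¹ * m * w⁻¹⁻¹) * (w⁻¹ * n) by group]
            exact mul_mem (P.conj_mem w⁻¹ (inv_mem hwN) m ⟨hm', hm⟩) hn'
          · refine Or.inr ?_
            rw [← mul_assoc]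
            exact mul_mem hm' hn'
          · refine Or.inl ?_
            rw [show m * n = (w * (w⁻¹ * m) * w⁻¹) * (w * w) * (w⁻¹ * n) by group]
            exact mul_mem (mul_mem (P.conj_mem w hwN _ (Subgroup.mem_inf.2 ⟨hm', mul_mem (inv_mem hwN) hm⟩)) (Subgroup.mem_inf.1 hww).1) hn'
        inv_mem' := by
          rintro n ⟨hn, hn' | hn'⟩
          · exact ⟨inv_mem hn, Or.inl (inv_mem hn')⟩
          · refine ⟨inv_mem hn, Or.inr ?_⟩
            rw [show w⁻¹ * n⁻¹ = (w⁻¹ * (w⁻¹ * n)⁻¹ * w⁻¹⁻¹) * (w * w)⁻¹ by group]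
            exact mul_mem (P.conj_mem w⁻¹ (inv_mem hwN) _
              (Subgroup.mem_inf.2 ⟨inv_mem hn', inv_mem (mul_mem (inv_mem hwN) hn)⟩))
              (inv_mem (Subgroup.mem_inf.1 hww).1) }
    have hle : P.N ≤ H := by
      conv_lhs => rw [← P.closure_sup]
      refine sup_le ((Subgroup.closure_le H).2 fun s hs => ?_) fun n hn => ⟨hn.2, Or.inl hn.1⟩
      rw [hS s hs]
      exact ⟨hwN, Or.inr (by rw [inv_mul_cancel]; exact one_mem _)⟩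
    exact fun n hn => (hle hn).2
  -- Bruhat decomposition
  have hmid : ∀ b ∈ P.B, w * b * w ∈ P.B ∨ ∃ b₁ ∈ P.B, ∃ b₂ ∈ P.B, w * b * w = b₁ * w * b₂ := by
    intro b hb
    rcases P.mul_mem_union w hw w hwN b hb with h | h
    · obtain ⟨b₁, hb₁, b₂, hb₂, e⟩ := DoubleCoset.mem_doubleCoset.1 h
      exact Or.inl (e ▸ mul_mem (mul_mem hb₁ hww.1) hb₂)
    · obtain ⟨b₁, hb₁, b₂, hb₂, e⟩ := DoubleCoset.mem_doubleCoset.1 h
      exact Or.inr ⟨b₁, hb₁, b₂, hb₂, e⟩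
  have hbruhat : ∀ g : G, g ∈ P.B ∨ ∃ b₁ ∈ P.B, ∃ b₂ ∈ P.B, g = b₁ * w * b₂ := by
    let H : Subgroup G :=
      { carrier := {g | g ∈ P.B ∨ ∃ b₁ ∈ P.B, ∃ b₂ ∈ P.B, g = b₁ * w * b₂}
        one_mem' := Or.inl (one_mem _)
        mul_mem' := by
          rintro g h (hg | ⟨b₁, hb₁, b₂, hb₂, rfl⟩) (hh | ⟨c₁, hc₁, c₂, hc₂, rfl⟩)
          · exact Or.inl (mul_mem hg hh)
          · exact Or.inr ⟨g * c₁, mul_mem hg hc₁, c₂, hc₂, by group⟩
          · exact Or.inr ⟨b₁, hb₁, b₂ * h, mul_mem hb₂ hh, by group⟩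
          · rw [show b₁ * w * b₂ * (c₁ * w * c₂) = b₁ * (w * (b₂ * c₁) * w) * c₂ by group]
            rcases hmid _ (mul_mem hb₂ hc₁) with h | ⟨d₁, hd₁, d₂, hd₂, e⟩
            · exact Or.inl (mul_mem (mul_mem hb₁ h) hc₂)
            · exact Or.inr ⟨b₁ * d₁, mul_mem hb₁ hd₁, d₂ * c₂, mul_mem hd₂ hc₂, by rw [e]; group⟩
        inv_mem' := by
          rintro g (hg | ⟨b₁, hb₁, b₂, hb₂, rfl⟩)
          · exact Or.inl (inv_mem hg)
          · exact Or.inr ⟨b₂⁻¹ * (w * w)⁻¹, mul_mem (inv_mem hb₂) (inv_mem hww.1), b₁⁻¹,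
              inv_mem hb₁, by group⟩ }
    intro g
    have hle : P.B ⊔ P.N ≤ H := by
      refine sup_le (fun b hb => Or.inl hb) fun n hn => ?_
      rcases hNdec n hn with h | h
      · exact Or.inl h
      · exact Or.inr ⟨1, one_mem _, w⁻¹ * n, h, by group⟩
    exact hle (P.sup_eq_top.symm ▸ Subgroup.mem_top g)
  -- `B = U T`
  have hUc : ∀ b ∈ P.B, ∀ u ∈ U, b * u * b⁻¹ ∈ U := fun b hb u hu =>
    hUn.conj_mem ⟨u, hUB hu⟩ hu ⟨b, hb⟩
  have hBdec : ∀ b ∈ P.B, ∃ u ∈ U, ∃ τ ∈ P.B ⊓ P.N, b = u * τ := by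
    intro b hb
    have hnorm : (P.B ⊓ P.N) ≤ Subgroup.normalizer (U : Set G) := by
      intro τ hτ
      rw [Subgroup.mem_normalizer_iff]
      refine fun u => ⟨hUc τ hτ.1 u, fun hu => ?_⟩
      have := hUc τ⁻¹ (inv_mem hτ.1) _ hu
      rwa [show τ⁻¹ * (τ * u * τ⁻¹) * τ⁻¹⁻¹ = u by group] at this
    rw [← hsplit, ← SetLike.mem_coe, Subgroup.coe_mul_of_right_le_normalizer_left _ _ hnorm] at hb
    obtain ⟨u, hu, τ, hτ, rfl⟩ := hb
    exact ⟨u, hu, τ, hτ, rfl⟩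
  set a : G ⧸ P.B := ((1 : G) : G ⧸ P.B) with ha
  have hstab : ∀ g : G, g • a = a ↔ g ∈ P.B := SEmbed.smul_one_eq_iff P.B
  have hwa : (w : G ⧸ P.B) ≠ a := fun h => hwB (by
    have := QuotientGroup.eq.1 h
    simpa using this)
  have hreach : ∀ c : G ⧸ P.B, c ≠ a → ∃ u ∈ U, u • (w : G ⧸ P.B) = c := by
    intro c
    induction c using QuotientGroup.induction_on with
    | _ g =>
      intro hc
      rcases hbruhat g with hg | ⟨b₁, hb₁, b₂, hb₂, rfl⟩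
      · exact absurd (QuotientGroup.eq.2 (by simpa using hg)) hc
      obtain ⟨u, hu, τ, hτ, rfl⟩ := hBdec b₁ hb₁
      refine ⟨u, hu, ?_⟩
      rw [MulAction.Quotient.smul_mk, smul_eq_mul, QuotientGroup.eq,
        show (u * w)⁻¹ * (u * τ * w * b₂) = (w⁻¹ * τ * w⁻¹⁻¹) * b₂ by group]
      exact mul_mem (P.conj_mem w⁻¹ (inv_mem hwN) τ hτ) hb₂
  have htrans : ∀ b c : G ⧸ P.B, b ≠ a → c ≠ a → ∃ u ∈ U, u • b = c := by
    intro b c hb hc
    obtain ⟨u, hu, rfl⟩ := hreach b hb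
    obtain ⟨u', hu', rfl⟩ := hreach c hc
    exact ⟨u' * u⁻¹, mul_mem hu' (inv_mem hu), by rw [mul_smul, inv_smul_smul]⟩
  refine ⟨?_, ⟨_, hwa⟩, fun u hu => (hstab u).2 (hUB hu), fun h hh u hu => hUc h ((hstab h).1 hh) u hu,
    hUnil, htrans, ?_⟩
  · rw [is_two_pretransitive_iff]
    intro x y z q hxy hzq
    obtain ⟨g, hg⟩ := MulAction.exists_smul_eq G x a
    obtain ⟨k, hk⟩ := MulAction.exists_smul_eq G z a
    obtain ⟨u, hu, huy⟩ := htrans (g • y) (k • q)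
      (fun h => hxy (smul_left_cancel g (hg.trans h.symm)))
      (fun h => hzq (smul_left_cancel k (hk.trans h.symm)))
    refine ⟨k⁻¹ * (u * g), ?_, ?_⟩
    · rw [mul_smul, mul_smul, hg, (hstab u).2 (hUB hu), inv_smul_eq_iff, hk]
    · rw [mul_smul, mul_smul, huy, inv_smul_smul]
  · intro x hx
    refine ⟨Nat.card ↥(P.B ⊓ P.N), hH, ?_⟩
    obtain ⟨u, hu, τ, hτ, rfl⟩ := hBdec x ((hstab x).1 hx)
    have key : ∀ k : ℕ, ∃ u' ∈ U, (u * τ) ^ k = u' * τ ^ k := by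
      intro k
      induction k with
      | zero => exact ⟨1, one_mem U, by simp⟩
      | succ k ih =>
        obtain ⟨u', hu', e⟩ := ih
        refine ⟨u' * (τ ^ k * u * (τ ^ k)⁻¹), mul_mem hu' (hUc _ (pow_mem hτ.1 k) u hu), ?_⟩
        rw [pow_succ, e, pow_succ]
        group
    obtain ⟨u', hu', e⟩ := key (Nat.card ↥(P.B ⊓ P.N))
    have hpow : τ ^ Nat.card ↥(P.B ⊓ P.N) = 1 :=
      congrArg Subtype.val (pow_card_eq_one' (x := (⟨τ, hτ⟩ : ↥(P.B ⊓ P.N))))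
    rw [e, hpow, mul_one]
    exact hu'

/-- A split action of odd degree of a simple group is a rank one set-up. -/
theorem Split.exists_setup {Ω : Type v} [MulAction G Ω] [FaithfulSMul G Ω] [Finite G] [Finite Ω]
    [IsSimpleGroup G] {a : Ω} {U : Subgroup G} (hU : Split a U) (hv : Odd (Nat.card Ω))
    (hO : KernelTwo.{v}) :
    (∃ t : G, Cfsg.IsRankOneSetup G Ω a t U) ∧
      ∃ x y : G, x ≠ 1 ∧ y ≠ 1 ∧ x ≠ y ∧ x * x = 1 ∧ y * y = 1 ∧ x * y = y * x := by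
  obtain ⟨b, hb⟩ := hU.exists_ne
  obtain ⟨t, ht, ht1⟩ := hU.Aat_ne_bot hv b
  have hta : t • a ≠ a := fun h => hb.symm (hU.Aat_eq ht ht1 h)
  have hreg : ∀ x ∈ U, x • t • a = t • a → x = 1 := fun x hx h =>
    (Subgroup.eq_bot_iff_forall _).1 (hU.Xat_eq_bot hv hO hta) x ⟨hU.Uat_self.symm ▸ hx, h⟩
  refine ⟨⟨t, hU.two_trans, ht.2.2, ht1, fun h => hta h, hU.le, hU.conj_mem, ?_, ?_, ?_, ?_⟩, ?_⟩
  · exact (Subgroup.eq_bot_iff_forall _).2 fun x hx => hreg x hx.1 hx.2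
  · refine le_antisymm (sup_le hU.le inf_le_left) fun h hh => ?_
    obtain ⟨u, hu, huh⟩ := hU.trans (t • a) (h • t • a) hta
      (fun e => hta (smul_left_cancel h (e.trans (mem_stabilizer_iff.1 hh).symm)))
    rw [show h = u * (u⁻¹ * h) by group]
    refine Subgroup.mul_mem_sup hu
      (Subgroup.mem_inf.2 ⟨mul_mem (inv_mem (hU.le hu)) hh, mem_stabilizer_iff.2 ?_⟩)
    rw [mul_smul, ← huh, inv_smul_smul]
  · obtain ⟨y, hy, hy1⟩ := hU.Aat_ne_bot hv a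
    rw [even_iff_two_dvd]
    have h2 : orderOf (⟨y, hU.mem_U_of_eq hy.1⟩ : U) = 2 := by
      rw [Subgroup.orderOf_mk]
      exact orderOf_eq_prime (by rw [pow_two, hy.2.2]) hy1
    exact h2 ▸ orderOf_dvd_natCard _
  · rw [Nat.odd_iff, ← Nat.two_dvd_ne_zero]
    intro h
    haveI : Fact (Nat.Prime 2) := ⟨Nat.prime_two⟩
    obtain ⟨⟨x, hxa, hxb⟩, hx⟩ := exists_prime_orderOf_dvd_card' 2 h
    rw [← Subgroup.orderOf_coe] at hx
    have hxx : x * x = 1 := by rw [← pow_two, ← hx, pow_orderOf_eq_one]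
    have h1 := hreg x (hU.mem_U_of_eq (hU.invol_mem hxa hxx)) hxb
    rw [orderOf_eq_one_iff.2 h1] at hx
    norm_num at hx
  · obtain ⟨y, hy, hy1⟩ := hU.Aat_ne_bot hv a
    obtain ⟨z, hz, hz1, hzy⟩ := hU.exists_third hv hy
    exact ⟨y, z, hy1, hz1, hzy.symm, hy.2.2, hz.2.2, hy.2.1 z hz.1⟩

/-- **Strongly split rank one pairs of odd type**, given Suzuki's theorem. -/
theorem bn_classification (hO : KernelTwo.{u})
    (h1136 : ∀ (G : Type u) [Group G] [Finite G] (Ω : Type u) [MulAction G Ω] [FaithfulSMul G Ω]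
      (a : Ω) (t : G) (Q : Subgroup G), Cfsg.IsRankOneSetup G Ω a t Q →
      (∃ x y : G, x ≠ 1 ∧ y ≠ 1 ∧ x ≠ y ∧ x * x = 1 ∧ y * y = 1 ∧ x * y = y * x) →
      ∃ L : Subgroup G, L.Normal ∧ Odd L.index ∧
        ((∃ (F : Type) (_ : Field F) (_ : Fintype F), (∃ n : ℕ, 2 ≤ n ∧ Fintype.card F = 2 ^ n) ∧
            Nonempty (L ≃* Matrix.ProjectiveSpecialLinearGroup (Fin 2) F)) ∨
          Cfsg.Lie.IsoSuzuki L ∨
          (∃ (F : Type) (_ : Field F) (_ : Fintype F) (n : ℕ), 2 ≤ n ∧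
            Fintype.card F = (2 ^ n) ^ 2 ∧ Nonempty (L ≃* Cfsg.PSU 3 F (2 ^ n)))))
    [Finite G] [IsSimpleGroup G] (P : Cfsg.BNPair G) (hrank : P.rank = 1) (U : Subgroup G)
    (hUB : U ≤ P.B) (hUn : (U.subgroupOf P.B).Normal) (hUnil : Group.IsNilpotent U)
    (hsplit : U ⊔ (P.B ⊓ P.N) = P.B) (hind : Odd P.B.index) (hH : Odd (Nat.card ↥(P.B ⊓ P.N))) :
    (∃ (F : Type) (_ : Field F) (_ : Fintype F), (∃ n : ℕ, Fintype.card F = 2 ^ n) ∧
        Nonempty (G ≃* Matrix.ProjectiveSpecialLinearGroup (Fin 2) F)) ∨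
      Cfsg.IsSuzuki G ∨
      (∃ (F : Type) (_ : Field F) (_ : Fintype F) (n : ℕ), 2 ≤ n ∧ Fintype.card F = (2 ^ n) ^ 2 ∧
        Nonempty (G ≃* Cfsg.PSU 3 F (2 ^ n))) := by
  obtain ⟨hB, hU⟩ := split_of_bnPair P hrank U hUB hUn hUnil hsplit hH
  haveI := SEmbed.faithfulSMul_cosets hB
  have hv : Odd (Nat.card (G ⧸ P.B)) := by rwa [← Subgroup.index_eq_card]
  obtain ⟨⟨t, hS⟩, h2⟩ := hU.exists_setup hv hO
  obtain ⟨x, -, hx, -, -, hxx, -, -⟩ := id h2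
  obtain ⟨L, hLn, hodd, hL⟩ := h1136 G (G ⧸ P.B) _ t U hS h2
  have hLtop : L = ⊤ := hLn.eq_bot_or_eq_top.resolve_left fun h => by
    rw [h, Subgroup.index_bot] at hodd
    have hx2 : orderOf x = 2 := orderOf_eq_prime (by rw [pow_two, hxx]) hx
    exact Nat.not_even_iff_odd.2 hodd (even_iff_two_dvd.2 (hx2 ▸ orderOf_dvd_natCard x))
  let eL : G ≃* L := Subgroup.topEquiv.symm.trans (MulEquiv.subgroupCongr hLtop.symm)
  rcases hL with ⟨F, iF, iT, ⟨n, -, hF⟩, ⟨e⟩⟩ | ⟨F, iF, iT, m, hm, hF, ⟨e⟩⟩ |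
      ⟨F, iF, iT, n, hn, hF, ⟨e⟩⟩
  · exact Or.inl ⟨F, iF, iT, ⟨n, hF⟩, ⟨MulEquiv.trans eL e⟩⟩
  · refine Or.inr (Or.inl ⟨inferInstance, m, hm, ?_⟩)
    rw [Nat.card_congr (eL.trans e).toEquiv, CfsgLib.EPPOFour.card_lie_sz hm hF, hF]
  · exact Or.inr (Or.inr ⟨F, iF, iT, n, hn, hF, ⟨MulEquiv.trans eL e⟩⟩)

end CfsgLib.SplitRankOne
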