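import Cfsg.Agent.NilpotentCover.Basic
import Cfsg.Agent.OddOrder.CN.Basic
import Cfsg.Agent.Solvable.Nilpotent
import Mathlib

/-!
# Doubly transitive groups with a transitive nilpotent normal subgroup in a point stabiliser

`Split a U`: `G` is 2-transitive, `U` is a nilpotent normal subgroup of `G_a`, transitive on the
other points, and of odd index in `G_a`.

* `Split.symm`: the stabiliser of `d` in the conjugate of `U` at `c` lies in the conjugate at `d`.
-/

set_option autoImplicit false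
set_option linter.style.haveILetI false
set_option linter.unusedSectionVars false

namespace CfsgLib.SplitRankOne

open MulAction

universe u v

variable {G : Type u} {Ω : Type v} [Group G] [MulAction G Ω]

theorem orderOf_conj {G : Type*} [Group G] (h y : G) : orderOf (h * y * h⁻¹) = orderOf y := by
  rw [← MulAut.conj_apply]
  exact (MulAut.conj h).orderOf_eq y

/-- The conjugate of `U` belonging to the point `c`. -/
def Uat (a : Ω) (U : Subgroup G) (c : Ω) : Subgroup G where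
  carrier := {x | ∀ g : G, g • a = c → g⁻¹ * x * g ∈ U}
  one_mem' := fun g _ => by simp
  mul_mem' := fun {x y} hx hy g hg => by
    rw [show g⁻¹ * (x * y) * g = (g⁻¹ * x * g) * (g⁻¹ * y * g) by group]
    exact mul_mem (hx g hg) (hy g hg)
  inv_mem' := fun {x} hx g hg => by
    rw [show g⁻¹ * x⁻¹ * g = (g⁻¹ * x * g)⁻¹ by group]
    exact inv_mem (hx g hg)

/-- A doubly transitive group with a transitive nilpotent normal subgroup of odd index in a point
stabiliser. -/
structure Split (a : Ω) (U : Subgroup G) : Prop where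
  two_trans : IsMultiplyPretransitive G Ω 2
  exists_ne : ∃ b : Ω, b ≠ a
  le : U ≤ stabilizer G a
  conj_mem : ∀ h ∈ stabilizer G a, ∀ u ∈ U, h * u * h⁻¹ ∈ U
  nil : Group.IsNilpotent U
  trans : ∀ b c : Ω, b ≠ a → c ≠ a → ∃ u ∈ U, u • b = c
  odd_pow : ∀ x ∈ stabilizer G a, ∃ N : ℕ, Odd N ∧ x ^ N ∈ U

variable {a : Ω} {U : Subgroup G}

theorem conj_mem_Uat {x : G} {c : Ω} (hx : x ∈ Uat a U c) (h : G) :
    h * x * h⁻¹ ∈ Uat a U (h • c) := by
  intro g hg
  rw [show g⁻¹ * (h * x * h⁻¹) * g = (h⁻¹ * g)⁻¹ * x * (h⁻¹ * g) by group]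
  exact hx _ (by rw [mul_smul, hg, inv_smul_smul])

namespace Split

variable (hU : Split a U)

include hU

theorem exists_smul (c : Ω) : ∃ g : G, g • a = c := by
  haveI : IsPretransitive G Ω := by
    haveI := hU.two_trans
    exact isPretransitive_of_is_two_pretransitive
  exact MulAction.exists_smul_eq G a c

theorem exists_pair {c d c' d' : Ω} (h : c ≠ d) (h' : c' ≠ d') :
    ∃ g : G, g • c = c' ∧ g • d = d' :=
  is_two_pretransitive_iff.1 hU.two_trans h h'

theorem mem_Uat_iff {g : G} {c : Ω} (hg : g • a = c) {x : G} :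
    x ∈ Uat a U c ↔ g⁻¹ * x * g ∈ U := by
  refine ⟨fun h => h g hg, fun h k hk => ?_⟩
  have hs : k⁻¹ * g ∈ stabilizer G a := by
    rw [mem_stabilizer_iff, mul_smul, hg, ← hk, inv_smul_smul]
  have := hU.conj_mem _ hs _ h
  rwa [show k⁻¹ * g * (g⁻¹ * x * g) * (k⁻¹ * g)⁻¹ = k⁻¹ * x * k by group] at this

theorem Uat_self : Uat a U a = U := by
  ext x
  rw [hU.mem_Uat_iff (one_smul G a)]
  simp

theorem mem_U_of_eq {x : G} (hx : x ∈ Uat a U a) : x ∈ U := hU.Uat_self ▸ hx

theorem Uat_le (c : Ω) : Uat a U c ≤ stabilizer G c := by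
  intro x hx
  obtain ⟨g, rfl⟩ := hU.exists_smul c
  have h : (g⁻¹ * x * g) • a = a := hU.le ((hU.mem_Uat_iff rfl).1 hx)
  rw [mem_stabilizer_iff]
  calc x • g • a = g • (g⁻¹ * x * g) • a := by rw [← mul_smul, ← mul_smul]; congr 1; group
    _ = g • a := by rw [h]

theorem conj_at {c : Ω} {h x : G} (hh : h • c = c) (hx : x ∈ Uat a U c) :
    h * x * h⁻¹ ∈ Uat a U c := by
  have := conj_mem_Uat hx h
  rwa [hh] at this

theorem nil_at (c : Ω) : Group.IsNilpotent (Uat a U c) := by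
  obtain ⟨g, rfl⟩ := hU.exists_smul c
  haveI := hU.nil
  have he : Uat a U (g • a) = U.map (MulAut.conj g).toMonoidHom := by
    ext x
    rw [hU.mem_Uat_iff rfl, Subgroup.mem_map_equiv, MulAut.conj_symm_apply]
  rw [he]
  exact Group.nilpotent_of_mulEquiv (U.equivMapOfInjective _ (MulAut.conj g).injective)

theorem trans_at {b d c : Ω} (hb : b ≠ c) (hd : d ≠ c) : ∃ u ∈ Uat a U c, u • b = d := by
  obtain ⟨g, hg⟩ := hU.exists_smul c
  have hne : ∀ e, e ≠ c → g⁻¹ • e ≠ a := fun e he h =>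
    he (by rw [← hg, ← h, smul_inv_smul])
  obtain ⟨u, hu, h⟩ := hU.trans _ _ (hne b hb) (hne d hd)
  refine ⟨g * u * g⁻¹, (hU.mem_Uat_iff hg).2 ?_, ?_⟩
  · rwa [show g⁻¹ * (g * u * g⁻¹) * g = u by group]
  · rw [mul_smul, mul_smul, h, smul_inv_smul]

theorem odd_pow_at {c : Ω} {x : G} (hx : x • c = c) : ∃ N : ℕ, Odd N ∧ x ^ N ∈ Uat a U c := by
  obtain ⟨g, hg⟩ := hU.exists_smul c
  obtain ⟨N, hN, h⟩ := hU.odd_pow (g⁻¹ * x * g) (by
    rw [mem_stabilizer_iff, mul_smul, mul_smul, hg, hx, ← hg, inv_smul_smul])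
  refine ⟨N, hN, (hU.mem_Uat_iff hg).2 ?_⟩
  have e : (g⁻¹ * x * g) ^ N = g⁻¹ * x ^ N * g := by
    have := conj_pow (a := g⁻¹) (b := x) (i := N)
    rwa [inv_inv] at this
  rwa [e] at h

/-- Elements of 2-power order fixing `c` lie in the conjugate of `U` at `c`. -/
theorem two_mem {c : Ω} {x : G} (hx : x • c = c) {k : ℕ} (hk : x ^ 2 ^ k = 1) :
    x ∈ Uat a U c := by
  obtain ⟨N, hN, hm⟩ := hU.odd_pow_at hx
  have hco : N.Coprime (orderOf x) :=
    Nat.Coprime.coprime_dvd_right (orderOf_dvd_of_pow_eq_one hk) (hN.coprime_two_right.pow_right k)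
  obtain ⟨m, hm'⟩ := exists_pow_eq_self_of_coprime hco
  rw [← hm']
  exact pow_mem hm m

theorem invol_mem {c : Ω} {x : G} (hx : x • c = c) (h2 : x * x = 1) : x ∈ Uat a U c :=
  hU.two_mem hx (k := 1) (by rw [pow_one, pow_two, h2])

variable [FaithfulSMul G Ω]

/-- A central element of the conjugate of `U` at `c` moves all other points. -/
theorem semiregular {c d : Ω} {z : G} (hz : z ∈ Uat a U c)
    (hc : ∀ u ∈ Uat a U c, z * u = u * z) (hd : d ≠ c) (h : z • d = d) : z = 1 := by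
  refine eq_of_smul_eq_smul (α := Ω) fun e => ?_
  rw [one_smul]
  rcases eq_or_ne e c with rfl | he
  · exact hU.Uat_le e hz
  · obtain ⟨u, hu, rfl⟩ := hU.trans_at hd he
    rw [← mul_smul, hc u hu, mul_smul, h]

variable [Finite G]

/-- The symmetry for elements of prime power order. -/
theorem symm_pElement (p : ℕ) [hp : Fact p.Prime] {c d : Ω} (hcd : c ≠ d) {x : G}
    (hx : x ∈ Uat a U c) (hxp : ∃ i, orderOf x = p ^ i) (hxd : x • d = d) : x ∈ Uat a U d := by
  -- it suffices to find one good pair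
  suffices H : ∃ e f : Ω, e ≠ f ∧
      ∀ y ∈ Uat a U e, (∃ i, orderOf y = p ^ i) → y • f = f → y ∈ Uat a U f by
    obtain ⟨e, f, hef, hgood⟩ := H
    obtain ⟨h, hc, hd⟩ := hU.exists_pair hcd hef
    have hy := hgood (h * x * h⁻¹) (hc ▸ conj_mem_Uat hx h)
      (by obtain ⟨i, hi⟩ := hxp
          exact ⟨i, by
            rw [← hi]
            exact orderOf_conj h _⟩)
      (by rw [← hd, mul_smul, mul_smul, inv_smul_smul, hxd])
    have := conj_mem_Uat hy h⁻¹
    rwa [← hd, inv_smul_smul, show h⁻¹ * (h * x * h⁻¹) * h⁻¹⁻¹ = x by group] at this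
  obtain ⟨b, hb⟩ := hU.exists_ne
  have key : ∀ e : Ω, ∃ P : Subgroup G, P ≤ Uat a U e ∧ IsPGroup p P ∧
      (∀ y ∈ Uat a U e, (∃ i, orderOf y = p ^ i) → y ∈ P) ∧
      ∀ h : G, h • e = e → ∀ y ∈ P, h * y * h⁻¹ ∈ P := by
    intro e
    obtain ⟨P, hPle, hP, hmax, -⟩ :=
      NilpotentCover.exists_pGroup_of_mem (p := p) (hU.nil_at e)
    refine ⟨P, hPle, hP, hmax, fun h hh y hy => hmax _ (hU.conj_at hh (hPle hy)) ?_⟩
    obtain ⟨i, hi⟩ := IsPGroup.iff_orderOf.1 hP ⟨y, hy⟩
    rw [Subgroup.orderOf_mk] at hi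
    exact ⟨i, by
      rw [← hi]
      exact orderOf_conj h _⟩
  obtain ⟨P, hPle, hP, hPmax, hPn⟩ := key a
  obtain ⟨Pb, hPble, hPb, hPbmax, hPbn⟩ := key b
  rcases eq_or_ne P ⊥ with hP1 | hP1
  · refine ⟨a, b, hb.symm, fun y hy hyp _ => ?_⟩
    have := hPmax y hy hyp
    rw [hP1, Subgroup.mem_bot] at this
    rw [this]
    exact one_mem _
  -- `z` central in `U`, commuting with the elements of `Pb` fixing `a`
  set P' := Pb ⊓ stabilizer G a with hP'
  have hnorm : P' ≤ Subgroup.normalizer (P : Set G) := by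
    intro h hh
    rw [Subgroup.mem_normalizer_iff]
    refine fun y => ⟨fun hy => hPn h hh.2 y hy, fun hy => ?_⟩
    have := hPn h⁻¹ (inv_mem hh).2 _ hy
    rwa [show h⁻¹ * (h * y * h⁻¹) * h⁻¹⁻¹ = y by group] at this
  have hR : IsPGroup p ↥(P' ⊔ P) :=
    (hPb.to_le inf_le_left).to_sup_of_normal_right' hP hnorm
  haveI : Group.IsNilpotent ↥(P' ⊔ P) := hR.isNilpotent
  haveI hPR : (P.subgroupOf (P' ⊔ P)).Normal :=
    Subgroup.normal_subgroupOf_of_le_normalizer (sup_le hnorm Subgroup.le_normalizer)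
  have hne : P.subgroupOf (P' ⊔ P) ≠ ⊥ := by
    rw [Ne, Subgroup.subgroupOf_eq_bot]
    intro h
    exact hP1 (le_bot_iff.1 (fun y hy => h.le_bot ⟨hy, Subgroup.mem_sup_right hy⟩))
  obtain ⟨w, hw⟩ :=
    Subgroup.ne_bot_iff_exists_ne_one.1 (Solvable.inf_center_ne_bot hne)
  obtain ⟨⟨⟨z, hzR⟩, hzP, hzc⟩, rfl⟩ : ∃ w', w = w' := ⟨w, rfl⟩
  replace hzP : z ∈ P := hzP
  have hzcomm : ∀ y ∈ P' ⊔ P, z * y = y * z := fun y hy =>
    (congrArg Subtype.val (Subgroup.mem_center_iff.1 hzc ⟨y, hy⟩)).symm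
  have hz1' : z ≠ 1 := fun h => hw (Subtype.ext (Subtype.ext h))
  have hzU : ∀ u ∈ Uat a U a, z * u = u * z := by
    intro u hu
    suffices u ∈ Subgroup.centralizer ({z} : Set G) from
      (Subgroup.mem_centralizer_singleton_iff.1 this).symm
    refine OddOrder.CN.mem_of_prime_pow_mem fun q k hq y hy hord => ?_
    rw [Subgroup.mem_centralizer_singleton_iff]
    have hyU : y ∈ Uat a U a := Subgroup.zpowers_le.2 hu hy
    by_cases hqp : q = p
    · subst hqp
      exact (hzcomm y (Subgroup.mem_sup_right (hPmax y hyU ⟨k, hord⟩))).symm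
    · obtain ⟨i, hi⟩ := IsPGroup.iff_orderOf.1 hP ⟨z, hzP⟩
      rw [Subgroup.orderOf_mk] at hi
      exact (NilpotentCover.commute_of_coprime_mem (hU.nil_at a) hyU (hPle hzP) (by
        rw [hord, hi]
        exact ((Nat.coprime_primes hq hp.out).2 hqp).pow k i)).eq
  refine ⟨b, z • b, fun h => hz1' (hU.semiregular (hPle hzP) hzU hb h.symm), ?_⟩
  intro y hy hyp hyz
  have hza : z • a = a := hU.Uat_le a (hPle hzP)
  -- the two stabilisers in `Pb` are equal
  have hle : P' ≤ Pb ⊓ stabilizer G (z • b) := by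
    intro w hw
    refine ⟨hw.1, ?_⟩
    show w • z • b = z • b
    rw [← mul_smul, ← hzcomm w (Subgroup.mem_sup_left hw), mul_smul, hU.Uat_le b (hPble hw.1)]
  obtain ⟨h, hhb, hha⟩ := hU.exists_pair (c := b) (d := a) (c' := b) (d' := z • b) hb
    (fun h => hz1' (hU.semiregular (hPle hzP) hzU hb h.symm))
  have hcard : Nat.card P' = Nat.card ↥(Pb ⊓ stabilizer G (z • b)) := by
    refine Nat.card_congr
      { toFun := fun w => ⟨h * w.1 * h⁻¹, hPbn h hhb _ w.2.1, by
          show (h * w.1 * h⁻¹) • z • b = z • b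
          rw [← hha, mul_smul, mul_smul, inv_smul_smul, w.2.2]⟩
        invFun := fun w => ⟨h⁻¹ * w.1 * h, by
          have := hPbn h⁻¹ (inv_smul_eq_iff.2 hhb.symm) _ w.2.1
          rwa [inv_inv] at this, by
          show (h⁻¹ * w.1 * h) • a = a
          rw [mul_smul, mul_smul, hha, w.2.2, inv_smul_eq_iff, hha]⟩
        left_inv := fun w => Subtype.ext (by group)
        right_inv := fun w => Subtype.ext (by group) }
  have heq := Subgroup.eq_of_le_of_card_ge hle hcard.ge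
  have hyP' : y ∈ P' := heq ▸ ⟨hPbmax y hy hyp, hyz⟩
  have e : z * y * z⁻¹ = y := by rw [hzcomm y (Subgroup.mem_sup_left hyP')]; group
  have := conj_mem_Uat hy z
  rwa [e] at this

/-- The stabiliser of `d` in the conjugate at `c` lies in the conjugate at `d`. -/
theorem symm {c d : Ω} (hcd : c ≠ d) {x : G} (hx : x ∈ Uat a U c) (hxd : x • d = d) :
    x ∈ Uat a U d := by
  refine OddOrder.CN.mem_of_prime_pow_mem fun q k hq y hy hord => ?_
  haveI := Fact.mk hq
  exact hU.symm_pElement q hcd (Subgroup.zpowers_le.2 hx hy) ⟨k, hord⟩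
    ((Subgroup.zpowers_le (H := stabilizer G d)).2 (mem_stabilizer_iff.2 hxd) hy)

end Split

end CfsgLib.SplitRankOne
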