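import Cfsg.Agent.SplitRankOne.Line

/-!
# Counting fixed points of involutions when `U` is a 2-group

An involution `x` that fixes two points fixes exactly `q + 1` of them, and there are `q ^ 3 + 1`
points, `q` the number of central elements of square one with given centre.
-/

set_option autoImplicit false
set_option linter.style.haveILetI false
set_option linter.unusedSectionVars false

namespace CfsgLib.SplitRankOne

open MulAction

universe u v

/-- The arithmetic behind `f = q + 1`. -/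
theorem count_arith {h e f v : ℕ} (hh : 2 ≤ h) (hf : 2 ≤ f) (hv : v = 2 ^ e + 1)
    (hc : v = f + f * ((2 ^ h - 1) * (f - 1))) : f = 2 ^ h + 1 ∧ v = (2 ^ h) ^ 3 + 1 := by
  obtain ⟨g, rfl⟩ : ∃ g, f = g + 1 := ⟨f - 1, by omega⟩
  have hq : 4 ≤ 2 ^ h := le_trans (by norm_num) (Nat.pow_le_pow_right two_pos hh)
  obtain ⟨r, hr⟩ : ∃ r, 2 ^ h = r + 1 := ⟨2 ^ h - 1, by omega⟩
  rw [hr, Nat.add_sub_cancel, Nat.add_sub_cancel] at hc
  have hprod : g * (r * g + (r + 1)) = 2 ^ e := by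
    have e1 : (g + 1) + (g + 1) * (r * g) = g * (r * g + (r + 1)) + 1 := by ring
    omega
  obtain ⟨i, -, hi⟩ := (Nat.dvd_prime_pow Nat.prime_two).1 (Dvd.intro _ hprod)
  obtain ⟨s, -, hs⟩ := (Nat.dvd_prime_pow Nat.prime_two).1 (Dvd.intro_left _ hprod)
  have hodd : ∀ o : ℕ, Odd o → 1 < o → ∀ k : ℕ, k * o ≠ 2 ^ s := by
    intro o ho h1 k hk
    obtain ⟨j, -, rfl⟩ := (Nat.dvd_prime_pow Nat.prime_two).1 (Dvd.intro_left _ hk)
    rcases j with _ | j
    · simp at h1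
    · exact Nat.not_even_iff_odd.2 ho (even_two.pow_of_ne_zero (by omega))
  subst hi
  have hq' : 2 ∣ r + 1 := hr ▸ dvd_pow_self 2 (by omega)
  have hr2 : r % 2 = 1 := by omega
  rcases lt_trichotomy i h with hlt | heq | hgt
  · refine absurd ?_ (hodd (r + 2 ^ (h - i)) ?_ ?_ (2 ^ i))
    · rw [← hs, ← hr, mul_add, ← pow_add, show i + (h - i) = h by omega]; ring
    · have : 2 ∣ 2 ^ (h - i) := dvd_pow_self 2 (by omega)
      rw [Nat.odd_iff]; omega
    · have := Nat.one_le_two_pow (n := h - i); omega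
  · subst heq
    refine ⟨rfl, ?_⟩
    rw [hc, hr]
    ring
  · refine absurd ?_ (hodd (r * 2 ^ (i - h) + 1) ?_ ?_ (2 ^ h))
    · rw [← hs, ← hr, mul_add, show 2 ^ h * (r * 2 ^ (i - h)) = r * (2 ^ h * 2 ^ (i - h)) by ring,
        ← pow_add, show h + (i - h) = i by omega, mul_one]
    · exact ((even_two.pow_of_ne_zero (by omega)).mul_left r).add_one
    · have := Nat.one_le_two_pow (n := i - h)
      have : 1 * 1 ≤ r * 2 ^ (i - h) := Nat.mul_le_mul (by omega) this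
      omega

variable {G : Type u} {Ω : Type v} [Group G] [MulAction G Ω] {a : Ω} {U : Subgroup G}

namespace Split

variable (hU : Split a U) [FaithfulSMul G Ω] [Finite G]

include hU

theorem isPGroup_at (hP : IsPGroup 2 U) (c : Ω) : IsPGroup 2 (Uat a U c) := by
  obtain ⟨g, hg⟩ := hU.exists_smul c
  intro x
  obtain ⟨k, hk⟩ := hP ⟨g⁻¹ * x * g, (hU.mem_Uat_iff hg).1 x.2⟩
  refine ⟨k, Subtype.ext ?_⟩
  have h := congrArg Subtype.val hk
  simp only [Subgroup.coe_pow, Subgroup.coe_one] at h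
  have e := conj_pow (a := g⁻¹) (b := (x : G)) (i := 2 ^ k)
  rw [inv_inv, h] at e
  rw [Subgroup.coe_pow, Subgroup.coe_one,
    show (x : G) ^ 2 ^ k = g * (g⁻¹ * (x : G) ^ 2 ^ k * g) * g⁻¹ by group, ← e]
  group

theorem commute_of_invol {x z : G} {c : Ω} (hx2 : x * x = 1) (hx : x • c = c)
    (hz : z ∈ Aat a U c) : Commute x z :=
  hU.commute_of_fix (hU.invol_mem hx hx2) hz

/-- An involution fixing two points is not central in the group of any point. -/
theorem not_central {x : G} {c d e : Ω} (hx1 : x ≠ 1) (hcd : c ≠ d) (hc : x • c = c)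
    (hd : x • d = d) : x ∉ Aat a U e := fun h =>
  hcd ((hU.Aat_eq h hx1 hc).trans (hU.Aat_eq h hx1 hd).symm)

variable [Finite Ω] [IsSimpleGroup G]

theorem exists_cover (hv : Odd (Nat.card Ω)) {x : G} (hx2 : x * x = 1)
    (hxA : ∀ d, x ∉ Aat a U d) {c : Ω} (hc : x • c ≠ c) :
    ∃ d z, x • d = d ∧ z ∈ Aat a U d ∧ z ≠ 1 ∧ (x * z) • c = c := by
  obtain ⟨y, hy, hy1⟩ := hU.Aat_ne_bot hv c
  rcases dihedral_cases hx2 hy.2.2 with ⟨m, -, -, ⟨g, hg⟩, -⟩ | ⟨i, hi1, hii, hix, hiy, h⟩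
  · have := Aat_conj hy g⁻¹
    rw [← hg, show g⁻¹ * (g * x * g⁻¹) * g⁻¹⁻¹ = x by group] at this
    exact absurd this (hxA _)
  · have hic : i • c = c := hU.fix_of_commute hy hy1 hiy
    rcases h with ⟨-, g, hg⟩ | ⟨⟨g, hg⟩, -⟩
    · have hyi : y * i ∈ Aat a U c :=
        hU.Aat_of_conj hy hy1 hg (by rw [mul_smul, hic, hU.Aat_fixes hy])
      have hiA : i ∈ Aat a U c := by
        have := mul_mem (inv_mem hy) hyi
        rwa [inv_mul_cancel_left] at this
      exact absurd (hU.fix_of_commute hiA hi1 hix.symm) hc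
    · have hz : x * i ∈ Aat a U (g • c) := hg ▸ Aat_conj hy g
      have hz1 : x * i ≠ 1 := fun h => hy1 (by
        rw [show y = g⁻¹ * (g * y * g⁻¹) * g by group, hg, h]; group)
      exact ⟨g • c, x * i, hU.fix_of_commute hz hz1 ((Commute.refl x).mul_right hix.symm), hz, hz1,
        by rw [← mul_assoc, hx2, one_mul, hic]⟩

theorem cover_unique (hv : Odd (Nat.card Ω)) (hP : IsPGroup 2 U) {x : G} (hx2 : x * x = 1)
    {c d d' : Ω} (hc : x • c ≠ c) {z z' : G} (hd : x • d = d) (hd' : x • d' = d')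
    (hz : z ∈ Aat a U d) (hz1 : z ≠ 1) (hz' : z' ∈ Aat a U d') (hz1' : z' ≠ 1)
    (h : (x * z) • c = c) (h' : (x * z') • c = c) : d = d' ∧ z = z' := by
  have hcz : Commute x z := hU.commute_of_invol hx2 hd hz
  have hcz' : Commute x z' := hU.commute_of_invol hx2 hd' hz'
  have hi : (x * z) * (x * z) = 1 := by
    rw [show x * z * (x * z) = x * (z * x) * z by group, ← hcz.eq,
      show x * (x * z) * z = x * x * (z * z) by group, hx2, hz.2.2, one_mul]
  have hi' : (x * z') * (x * z') = 1 := by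
    rw [show x * z' * (x * z') = x * (z' * x) * z' by group, ← hcz'.eq,
      show x * (x * z') * z' = x * x * (z' * z') by group, hx2, hz'.2.2, one_mul]
  have hprod : (x * z) * (x * z') = z * z' := by
    rw [show x * z * (x * z') = x * (z * x) * z' by group, ← hcz.eq,
      show x * (x * z) * z' = x * x * (z * z') by group, hx2, one_mul]
  rcases eq_or_ne d d' with rfl | hdd
  · refine ⟨rfl, ?_⟩
    by_contra hne
    refine hc ?_
    have hzz : z * z' ∈ Aat a U d := mul_mem hz hz'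
    have hzz1 : z * z' ≠ 1 := fun e =>
      hne ((mul_eq_one_iff_eq_inv.1 e).trans (inv_eq_of_mul_eq_one_right hz'.2.2))
    have hcd : c = d := hU.Aat_eq hzz hzz1 (by rw [← hprod, mul_smul, h', h])
    rw [hcd, hd]
  · exfalso
    have hodd := hU.odd_orderOf_mul hdd hz hz1 hz' hz1'
    have hmem : z * z' ∈ Uat a U c :=
      hprod ▸ mul_mem (hU.invol_mem h hi) (hU.invol_mem h' hi')
    obtain ⟨k, hk⟩ := IsPGroup.iff_orderOf.1 (hU.isPGroup_at hP c) ⟨_, hmem⟩
    rw [Subgroup.orderOf_mk] at hk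
    rw [hk] at hodd
    rcases k with _ | k
    · have e : z = z' := (mul_eq_one_iff_eq_inv.1 (orderOf_eq_one_iff.1 hk)).trans
        (inv_eq_of_mul_eq_one_right hz'.2.2)
      exact hdd (hU.Aat_eq hz' hz1' (e ▸ hU.Aat_fixes hz))
    · exact Nat.not_even_iff_odd.2 hodd (even_two.pow_of_ne_zero (by omega))

open Classical in
/-- The points moved by `x`, sorted by their covering involutions. -/
theorem card_moved (hv : Odd (Nat.card Ω)) (hP : IsPGroup 2 U) {x : G} (hx2 : x * x = 1)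
    (hxA : ∀ d, x ∉ Aat a U d) [Fintype {d : Ω // x • d = d}]
    [∀ d : Ω, Fintype {z : Aat a U d // z ≠ 1}] :
    Nat.card {c : Ω // x • c ≠ c} = ∑ d : {d : Ω // x • d = d}, ∑ z : {z : Aat a U d.1 // z ≠ 1},
      Nat.card {c : Ω // (x * (z.1 : G)) • c = c ∧ c ≠ d.1} := by
  have key : ∀ (d : {d : Ω // x • d = d}) (z : {z : Aat a U d.1 // z ≠ 1})
      (c : Ω), (x * (z.1 : G)) • c = c → c ≠ d.1 → x • c ≠ c := by
    intro d z c hc hcd hxc
    refine hcd (hU.Aat_eq z.1.2 (fun h => z.2 (Subtype.ext h)) ?_)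
    calc (z.1 : G) • c = x • x • (z.1 : G) • c := by rw [← mul_smul x x, hx2, one_smul]
      _ = x • c := by rw [← mul_smul x (z.1 : G), hc]
      _ = c := hxc
  let f : (Σ d : {d : Ω // x • d = d}, Σ z : {z : Aat a U d.1 // z ≠ 1},
      {c : Ω // (x * (z.1 : G)) • c = c ∧ c ≠ d.1}) → {c : Ω // x • c ≠ c} :=
    fun p => ⟨p.2.2.1, key p.1 p.2.1 _ p.2.2.2.1 p.2.2.2.2⟩
  have hf : Function.Bijective f := by
    refine ⟨?_, fun c => ?_⟩
    · rintro ⟨⟨d, hd⟩, ⟨⟨z, hz⟩, hz1⟩, c, hc, hcd⟩ ⟨⟨d', hd'⟩, ⟨⟨z', hz'⟩, hz1'⟩, c', hc', hcd'⟩ e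
      have e' : c = c' := congrArg Subtype.val e
      subst e'
      obtain ⟨rfl, rfl⟩ := hU.cover_unique hv hP hx2
        (key ⟨d, hd⟩ ⟨⟨z, hz⟩, hz1⟩ c hc hcd) hd hd' hz (fun h => hz1 (Subtype.ext h)) hz'
        (fun h => hz1' (Subtype.ext h)) hc hc'
      rfl
    · obtain ⟨d, z, hd, hz, hz1, h⟩ := hU.exists_cover hv hx2 hxA c.2
      exact ⟨⟨⟨d, hd⟩, ⟨⟨z, hz⟩, fun h => hz1 (congrArg Subtype.val h)⟩, c.1, h,
        fun e => c.2 (e ▸ hd)⟩, rfl⟩
  rw [← Nat.card_congr (Equiv.ofBijective f hf), Nat.card_sigma]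
  exact Finset.sum_congr rfl fun d _ => Nat.card_sigma

open Classical in
theorem card_fix_congr {x x' : G} {k : G} (e : k * x * k⁻¹ = x') :
    Nat.card {c : Ω // x • c = c} = Nat.card {c : Ω // x' • c = c} :=
  Nat.card_congr
    { toFun := fun c => ⟨k • c.1, by
        rw [← e, mul_smul, mul_smul, inv_smul_smul, c.2]⟩
      invFun := fun c => ⟨k⁻¹ • c.1, by
        rw [show x = k⁻¹ * x' * k by rw [← e]; group, mul_smul, mul_smul, smul_inv_smul, c.2]⟩
      left_inv := fun c => Subtype.ext (inv_smul_smul k c.1)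
      right_inv := fun c => Subtype.ext (smul_inv_smul k c.1) }

open Classical in
theorem card_fix_sub_one {x : G} {d : Ω} (hd : x • d = d) :
    Nat.card {c : Ω // x • c = c ∧ c ≠ d} = Nat.card {c : Ω // x • c = c} - 1 := by
  haveI := Fintype.ofFinite Ω
  rw [Nat.card_eq_fintype_card, Nat.card_eq_fintype_card, Fintype.card_subtype,
    Fintype.card_subtype, ← Finset.card_erase_of_mem (a := d) (by simpa using hd)]
  congr 1
  ext c
  simp [and_comm]

theorem card_split {x : G} :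
    Nat.card Ω = Nat.card {c : Ω // x • c = c} + Nat.card {c : Ω // x • c ≠ c} := by
  classical
  rw [← Nat.card_sum]
  exact (Nat.card_congr (Equiv.sumCompl fun c : Ω => x • c = c)).symm

/-- The counting equation of an involution with two fixed points. -/
theorem count_eq (hv : Odd (Nat.card Ω)) (hP : IsPGroup 2 U) {x : G} (hx2 : x * x = 1)
    (hx1 : x ≠ 1) {d₀ e₀ : Ω} (hde : d₀ ≠ e₀) (hd₀ : x • d₀ = d₀) (he₀ : x • e₀ = e₀) :
    ∃ z₀ ∈ Aat a U d₀, z₀ ≠ 1 ∧ 2 ≤ Nat.card {c : Ω // (x * z₀) • c = c} ∧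
      Nat.card Ω = Nat.card {c : Ω // x • c = c} + Nat.card {c : Ω // x • c = c} *
        ((Nat.card (Aat a U a) - 1) * (Nat.card {c : Ω // (x * z₀) • c = c} - 1)) := by
  classical
  haveI := Fintype.ofFinite Ω
  haveI : ∀ d : Ω, Fintype {z : Aat a U d // z ≠ 1} := fun d => Fintype.ofFinite _
  obtain ⟨z₀, hz₀, hz₀1⟩ := hU.Aat_ne_bot hv d₀
  have hxA : ∀ d, x ∉ Aat a U d := fun d => hU.not_central hx1 hde hd₀ he₀
  -- all the covering involutions behave alike
  have hsame : ∀ d, x • d = d → ∀ z ∈ Aat a U d, z ≠ 1 →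
      Nat.card {c : Ω // (x * z) • c = c} = Nat.card {c : Ω // (x * z₀) • c = c} := by
    intro d hd z hz hz1
    have hcx : ∀ {e : Ω}, x • e = e → ∀ w ∈ Aat a U e, Commute x w :=
      fun he w hw => hU.commute_of_invol hx2 he hw
    obtain ⟨e, hed, he⟩ : ∃ e, e ≠ d ∧ x • e = e := by
      by_cases h : d₀ = d
      · exact ⟨e₀, fun e => hde (h.trans e.symm), he₀⟩
      · exact ⟨d₀, h, hd₀⟩
    obtain ⟨m, hmd, hmx⟩ : ∃ m, m • d₀ = d ∧ Commute x m := by
      by_cases h : d₀ = d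
      · exact ⟨1, by rw [one_smul, h], Commute.one_right x⟩
      · obtain ⟨m, -, hm1, -, hm⟩ := hU.exists_swap hv h
        exact ⟨m, hm1, hm x (hcx hd₀) (hcx hd)⟩
    have hz' : m * z₀ * m⁻¹ ∈ Aat a U d := hmd ▸ Aat_conj hz₀ m
    obtain ⟨k, -, -, hk, hkx⟩ := hU.exists_move hv hed.symm hz'
      (fun h => hz₀1 (by rw [show z₀ = m⁻¹ * (m * z₀ * m⁻¹) * m by group, h]; group)) hz hz1
    have hkx := hkx x (hcx hd) (hcx he)
    refine (hU.card_fix_congr (k := k * m) ?_).symm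
    calc k * m * (x * z₀) * (k * m)⁻¹ = (k * m * x) * z₀ * m⁻¹ * k⁻¹ := by group
      _ = (x * (k * m)) * z₀ * m⁻¹ * k⁻¹ := by rw [(hkx.mul_right hmx).eq]
      _ = x * (k * (m * z₀ * m⁻¹) * k⁻¹) := by group
      _ = x * z := by rw [hk]
  refine ⟨z₀, hz₀, hz₀1, ?_, ?_⟩
  · obtain ⟨c, hc⟩ : ∃ c : Ω, x • c ≠ c := by
      by_contra! h
      exact hx1 (eq_of_smul_eq_smul (α := Ω) fun c => by rw [h c, one_smul])
    obtain ⟨d, z, hd, hz, hz1, h⟩ := hU.exists_cover hv hx2 hxA hc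
    rw [← hsame d hd z hz hz1, Nat.succ_le_iff, Finite.one_lt_card_iff_nontrivial]
    exact ⟨⟨⟨c, h⟩, ⟨d, by rw [mul_smul, hU.Aat_fixes hz, hd]⟩,
      fun e => hc (by rw [show c = d from congrArg Subtype.val e, hd])⟩⟩
  · conv_lhs => rw [hU.card_split (x := x), hU.card_moved hv hP hx2 hxA]
    congr 1
    rw [Finset.sum_congr rfl fun d _ => Finset.sum_congr rfl fun z _ => by
      rw [hU.card_fix_sub_one (x := x * (z.1 : G)) (d := d.1)
          (by rw [mul_smul, hU.Aat_fixes z.1.2, d.2]),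
        hsame d.1 d.2 _ z.1.2 (fun h => z.2 (Subtype.ext h))]]
    have hcardz : ∀ d : Ω, Fintype.card {z : Aat a U d // z ≠ 1} = Nat.card (Aat a U a) - 1 := by
      intro d
      haveI := Fintype.ofFinite (Aat a U d)
      rw [← hU.card_Aat d, Nat.card_eq_fintype_card, Fintype.card_subtype_compl,
        Fintype.card_subtype_eq]
    simp only [Finset.sum_const, Finset.card_univ, hcardz, smul_eq_mul, Nat.card_eq_fintype_card]

theorem exists_pow_two (hP : IsPGroup 2 U) {b : Ω} (hb : b ≠ a) :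
    ∃ e, Nat.card Ω = 2 ^ e + 1 ∧ Nat.card U = 2 ^ e * Nat.card (Xat a U a b) := by
  classical
  haveI : Fact (Nat.Prime 2) := ⟨Nat.prime_two⟩
  have horb : orbit U b = {c | c ≠ a} := by
    ext c
    constructor
    · rintro ⟨u, rfl⟩ h
      have h' : (u : G) • b = (u : G) • a := (h : (u : G) • b = a).trans (hU.le u.2).symm
      exact hb ((smul_left_cancel_iff _).1 h')
    · intro hc
      obtain ⟨u, hu, h⟩ := hU.trans b c hb hc
      exact ⟨⟨u, hu⟩, h⟩
  have hst : Nat.card (stabilizer U b) = Nat.card (Xat a U a b) :=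
    Nat.card_congr
      { toFun := fun u => ⟨(u.1 : G), hU.Uat_self.symm ▸ u.1.2, u.2⟩
        invFun := fun x => ⟨⟨x.1, hU.mem_U_of_eq x.2.1⟩, x.2.2⟩
        left_inv := fun _ => rfl
        right_inv := fun _ => rfl }
  have hcard := Nat.card_congr (orbitProdStabilizerEquivGroup U b)
  rw [Nat.card_prod, hst, horb] at hcard
  obtain ⟨n, hn⟩ := IsPGroup.iff_card.1 hP
  obtain ⟨e, -, he⟩ := (Nat.dvd_prime_pow Nat.prime_two).1 (hn ▸ Dvd.intro _ hcard)
  refine ⟨e, ?_, by rw [← he, hcard]⟩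
  haveI := Fintype.ofFinite Ω
  rw [show Nat.card {c : Ω | c ≠ a} = Nat.card {c : Ω // c ≠ a} from rfl,
    Nat.card_eq_fintype_card, Fintype.card_subtype_compl, Fintype.card_subtype_eq] at he
  rw [Nat.card_eq_fintype_card]
  have : 0 < Fintype.card Ω := Fintype.card_pos_iff.2 ⟨a⟩
  omega

/-- **Counting.** An involution with two fixed points has `q + 1` of them. -/
theorem card_fixed (hv : Odd (Nat.card Ω)) (hP : IsPGroup 2 U) {x : G} (hx2 : x * x = 1)
    (hx1 : x ≠ 1) {d₀ e₀ : Ω} (hde : d₀ ≠ e₀) (hd₀ : x • d₀ = d₀) (he₀ : x • e₀ = e₀) :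
    Nat.card {c : Ω // x • c = c} = Nat.card (Aat a U a) + 1 ∧
      Nat.card Ω = Nat.card (Aat a U a) ^ 3 + 1 := by
  classical
  haveI : Fact (Nat.Prime 2) := ⟨Nat.prime_two⟩
  obtain ⟨b, hb⟩ := hU.exists_ne
  obtain ⟨e, he, -⟩ := hU.exists_pow_two hP hb
  obtain ⟨h, hh⟩ := IsPGroup.iff_card.1 (hU.isPGroup_Aat (a := a) (U := U) a)
  have hq := hU.two_lt_card_Aat hv a
  have hh2 : 2 ≤ h := by
    by_contra! hlt
    have : 2 ^ h ≤ 2 ^ 1 := Nat.pow_le_pow_right two_pos (by omega)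
    omega
  obtain ⟨z₀, hz₀, hz₀1, hf'2, hc⟩ := hU.count_eq hv hP hx2 hx1 hde hd₀ he₀
  have hf2 : 2 ≤ Nat.card {c : Ω // x • c = c} := by
    rw [Nat.succ_le_iff, Finite.one_lt_card_iff_nontrivial]
    exact ⟨⟨⟨d₀, hd₀⟩, ⟨e₀, he₀⟩, fun e => hde (congrArg Subtype.val e)⟩⟩
  -- the same equation for `x z₀`
  have hcz : Commute x z₀ := hU.commute_of_invol hx2 hd₀ hz₀
  have hx2' : x * z₀ * (x * z₀) = 1 := by
    rw [show x * z₀ * (x * z₀) = x * (z₀ * x) * z₀ by group, ← hcz.eq,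
      show x * (x * z₀) * z₀ = x * x * (z₀ * z₀) by group, hx2, hz₀.2.2, one_mul]
  have hx1' : x * z₀ ≠ 1 := fun h1 => hU.not_central (e := d₀) hx1 hde hd₀ he₀ (by
    rw [mul_eq_one_iff_eq_inv.1 h1]; exact inv_mem hz₀)
  have hd₀' : (x * z₀) • d₀ = d₀ := by rw [mul_smul, hU.Aat_fixes hz₀, hd₀]
  obtain ⟨⟨e₁, he₁⟩, hne⟩ : ∃ p : {c : Ω // (x * z₀) • c = c}, p ≠ ⟨d₀, hd₀'⟩ := by
    haveI := Finite.one_lt_card_iff_nontrivial.1 (Nat.lt_of_succ_le hf'2)
    exact _root_.exists_ne _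
  obtain ⟨z₁, hz₁, hz₁1, -, hc'⟩ := hU.count_eq hv hP hx2' hx1'
    (d₀ := d₀) (e₀ := e₁) (fun e => hne (Subtype.ext e.symm)) hd₀' he₁
  -- `x z₀ z₁` is conjugate to `x`
  have hback : Nat.card {c : Ω // (x * z₀ * z₁) • c = c} = Nat.card {c : Ω // x • c = c} := by
    obtain ⟨k, -, -, hk, hkx⟩ := hU.exists_move hv (fun e => hne (Subtype.ext e.symm) :
      d₀ ≠ e₁) hz₀ hz₀1 hz₁ hz₁1
    have hkx := hkx (x * z₀) (fun w hw => hU.commute_of_invol hx2' hd₀' hw)
      (fun w hw => hU.commute_of_invol hx2' he₁ hw)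
    refine (hU.card_fix_congr (k := k) ?_).symm
    calc k * x * k⁻¹ = k * (x * z₀) * k⁻¹ * (k * z₀⁻¹ * k⁻¹) := by group
      _ = (x * z₀) * k * k⁻¹ * (k * z₀ * k⁻¹) := by
          rw [← hkx.eq, inv_eq_of_mul_eq_one_right hz₀.2.2]
      _ = x * z₀ * z₁ := by rw [hk]; group
  rw [hback] at hc'
  rw [hh] at hc hc' ⊢
  have heq : Nat.card {c : Ω // (x * z₀) • c = c} = Nat.card {c : Ω // x • c = c} := by
    generalize Nat.card {c : Ω // x • c = c} = f at hc hc' hf2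
    generalize Nat.card {c : Ω // (x * z₀) • c = c} = f' at hc hc' hf'2
    obtain ⟨g, rfl⟩ : ∃ g, f = g + 1 := ⟨f - 1, by omega⟩
    obtain ⟨g', rfl⟩ : ∃ g', f' = g' + 1 := ⟨f' - 1, by omega⟩
    obtain ⟨r, hr⟩ : ∃ r, 2 ^ h = r + 3 := ⟨2 ^ h - 3, by rw [← hh]; omega⟩
    rw [hr, show r + 3 - 1 = r + 2 from rfl, Nat.add_sub_cancel] at hc hc'
    have e2 : g' * (r + 1) = g * (r + 1) := by
      rw [hc] at hc'
      ring_nf at hc' ⊢
      omega
    rw [Nat.eq_of_mul_eq_mul_right (by omega) e2]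
  rw [heq] at hc
  exact count_arith hh2 hf2 he hc

/-- An involution of `U` outside the centre fixes two points. -/
theorem exists_fixed_ne (hv : Odd (Nat.card Ω)) (hP : IsPGroup 2 U) {x₀ : G} {b : Ω}
    (hb : b ≠ a) (hx₀ : x₀ * x₀ = 1) (hx₀1 : x₀ ≠ 1) (hx₀a : x₀ • a = a) (hx₀b : x₀ • b = b)
    {x : G} (hx2 : x * x = 1) (hxa : x • a = a) (hxA : x ∉ Aat a U a) :
    ∃ e, e ≠ a ∧ x • e = e := by
  classical
  by_contra! h
  haveI := Fintype.ofFinite Ω
  haveI : ∀ d : Ω, Fintype {z : Aat a U d // z ≠ 1} := fun d => Fintype.ofFinite _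
  have hv3 := (hU.card_fixed hv hP hx₀ hx₀1 hb.symm hx₀a hx₀b).2
  have hxA' : ∀ d, x ∉ Aat a U d := fun d hd => hxA (by
    rcases eq_or_ne x 1 with hx1 | hx1
    · rw [hx1]; exact one_mem _
    have e := hU.Aat_eq hd hx1 hxa
    rw [← e] at hd
    exact hd)
  have hfix : Nat.card {c : Ω // x • c = c} = 1 := by
    rw [Nat.card_eq_one_iff_unique]
    refine ⟨⟨fun p p' => Subtype.ext ?_⟩, ⟨⟨a, hxa⟩⟩⟩
    have hp : ∀ q : {c : Ω // x • c = c}, q.1 = a := fun q => by_contra fun hq => h q.1 hq q.2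
    rw [hp p, hp p']
  have hbound : ∀ (d : {d : Ω // x • d = d}) (z : {z : Aat a U d.1 // z ≠ 1}),
      Nat.card {c : Ω // (x * (z.1 : G)) • c = c ∧ c ≠ d.1} ≤ Nat.card (Aat a U a) := by
    intro d z
    have hdd : (x * (z.1 : G)) • d.1 = d.1 := by rw [mul_smul, hU.Aat_fixes z.1.2, d.2]
    rw [hU.card_fix_sub_one hdd]
    rcases Nat.lt_or_ge 1 (Nat.card {c : Ω // (x * (z.1 : G)) • c = c}) with h1 | h1
    · haveI := Finite.one_lt_card_iff_nontrivial.1 h1
      obtain ⟨p, hp⟩ := _root_.exists_ne (⟨d.1, hdd⟩ : {c : Ω // (x * (z.1 : G)) • c = c})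
      have hcz : Commute x (z.1 : G) := hU.commute_of_invol hx2 d.2 z.1.2
      rw [(hU.card_fixed hv hP (x := x * (z.1 : G)) (by
        rw [show x * (z.1 : G) * (x * z.1) = x * ((z.1 : G) * x) * z.1 by group, ← hcz.eq,
          show x * (x * (z.1 : G)) * z.1 = x * x * ((z.1 : G) * z.1) by group, hx2, z.1.2.2.2,
          one_mul]) (fun e => hxA' d.1 (by
        have h' : x = (z.1 : G)⁻¹ := mul_eq_one_iff_eq_inv.1 e
        convert inv_mem z.1.2))
        (fun e => hp (Subtype.ext e.symm)) hdd p.2).1]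
      omega
    · omega
  have hsum : Nat.card {c : Ω // x • c ≠ c} ≤
      (Nat.card (Aat a U a) - 1) * Nat.card (Aat a U a) := by
    rw [hU.card_moved hv hP hx2 hxA']
    calc ∑ d : {d : Ω // x • d = d}, ∑ z : {z : Aat a U d.1 // z ≠ 1},
          Nat.card {c : Ω // (x * (z.1 : G)) • c = c ∧ c ≠ d.1}
        ≤ ∑ d : {d : Ω // x • d = d}, ∑ _z : {z : Aat a U d.1 // z ≠ 1}, Nat.card (Aat a U a) :=
          Finset.sum_le_sum fun d _ => Finset.sum_le_sum fun z _ => hbound d z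
      _ = _ := by
          have hcardz : ∀ d : Ω, Fintype.card {z : Aat a U d // z ≠ 1} =
              Nat.card (Aat a U a) - 1 := by
            intro d
            haveI := Fintype.ofFinite (Aat a U d)
            rw [← hU.card_Aat d, Nat.card_eq_fintype_card, Fintype.card_subtype_compl,
              Fintype.card_subtype_eq]
          simp only [Finset.sum_const, Finset.card_univ, hcardz, smul_eq_mul]
          rw [← Nat.card_eq_fintype_card, hfix, one_mul]
  have hsplit := hU.card_split (x := x)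
  rw [hfix, hv3] at hsplit
  have hq := hU.two_lt_card_Aat hv a
  have h2 : (Nat.card (Aat a U a) - 1) * Nat.card (Aat a U a) < Nat.card (Aat a U a) ^ 3 := by
    generalize Nat.card (Aat a U a) = q at hq
    calc (q - 1) * q < q * q * 1 := by
          rw [mul_one]; exact Nat.mul_lt_mul_of_pos_right (by omega) (by omega)
      _ ≤ q * q * q := Nat.mul_le_mul_left _ (by omega)
      _ = q ^ 3 := by ring
  omega

end Split

end CfsgLib.SplitRankOne
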