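import Cfsg.Agent.SplitRankOne.Basic
import Cfsg.Agent.ZStar.Theorem

/-!
# Central involutions of a split doubly transitive simple group of odd degree

`Aat a U c` is the group of central elements of square one of the conjugate of `U` at `c`. Products
of such involutions with different centres have odd order, and their midpoints move centres around.
-/

set_option autoImplicit false
set_option linter.style.haveILetI false
set_option linter.unusedSectionVars false

namespace CfsgLib.SplitRankOne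

open MulAction

universe u v

section Dihedral

variable {G : Type u} [Group G]

/-- Conjugating an involution by a power of its product with another one. -/
theorem conj_pow_mul {x r : G} (hx : x * x = 1) (h : x * r * x = r⁻¹) (l : ℕ) :
    (r ^ l)⁻¹ * x * r ^ l = x * r ^ (2 * l) := by
  have h' : (r ^ l)⁻¹ * x = x * r ^ l := by
    have e := conj_pow (a := x) (b := r) (i := l)
    rw [inv_eq_of_mul_eq_one_right hx, h, inv_pow] at e
    rw [e, mul_assoc _ x x, hx, mul_one]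
  rw [h', mul_assoc, ← pow_add, two_mul]

/-- The dichotomy for two involutions. -/
theorem dihedral_cases [Finite G] {x y : G} (hx : x * x = 1) (hy : y * y = 1) :
    (∃ m, m * m = 1 ∧ m * x * m = y ∧ (∃ g : G, g * x * g⁻¹ = y) ∧
        ∀ w, Commute w x → Commute w y → Commute w m) ∨
      ∃ i, i ≠ 1 ∧ i * i = 1 ∧ Commute i x ∧ Commute i y ∧
        ((∃ g : G, g * x * g⁻¹ = x * i) ∧ (∃ g : G, g * y * g⁻¹ = y * i) ∨
          (∃ g : G, g * y * g⁻¹ = x * i) ∧ (∃ g : G, g * x * g⁻¹ = y * i)) := by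
  have hxi : x⁻¹ = x := inv_eq_of_mul_eq_one_right hx
  have hyi : y⁻¹ = y := inv_eq_of_mul_eq_one_right hy
  obtain ⟨r, hr⟩ : ∃ r, r = x * y := ⟨_, rfl⟩
  have hy' : y = x * r := by rw [hr, ← mul_assoc, hx, one_mul]
  have hxr : x * r * x = r⁻¹ := by rw [hr, ← mul_assoc, hx, one_mul, mul_inv_rev, hxi, hyi]
  have hyr : y * r * y = r⁻¹ := by
    rw [hr, show y * (x * y) * y = y * x * (y * y) by group, hy, mul_one, mul_inv_rev, hxi, hyi]
  have hcomm : ∀ w, Commute w x → Commute w y → Commute w r := fun w h1 h2 =>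
    hr ▸ h1.mul_right h2
  rcases Nat.even_or_odd (orderOf r) with ⟨m, hm⟩ | ⟨l, hl⟩
  · right
    have hm1 : 0 < m := by have := orderOf_pos r; omega
    obtain ⟨i, hi⟩ : ∃ i, i = r ^ m := ⟨_, rfl⟩
    have hii : i * i = 1 := by rw [hi, ← pow_add, ← hm, pow_orderOf_eq_one]
    have hi' : i⁻¹ = i := inv_eq_of_mul_eq_one_right hii
    have hci : ∀ z : G, z * z = 1 → z * r * z = r⁻¹ → Commute i z := fun z hz hzr => by
      have e := conj_pow (a := z) (b := r) (i := m)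
      rw [inv_eq_of_mul_eq_one_right hz, hzr, inv_pow, ← hi, hi'] at e
      calc i * z = z * i * z * z := by rw [← e]
        _ = z * i := by rw [mul_assoc _ z z, hz, mul_one]
    refine ⟨i, fun h => ?_, hii, hci x hx hxr, hci y hy hyr, ?_⟩
    · have := orderOf_dvd_of_pow_eq_one (hi ▸ h : r ^ m = 1)
      have := Nat.le_of_dvd hm1 this
      omega
    rcases Nat.even_or_odd m with ⟨l, hl⟩ | ⟨l, hl⟩
    · refine Or.inl ⟨⟨(r ^ l)⁻¹, ?_⟩, ⟨(r ^ l)⁻¹, ?_⟩⟩
      · rw [inv_inv, conj_pow_mul hx hxr, hi]; congr 2; omega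
      · rw [inv_inv, conj_pow_mul hy hyr, hi]; congr 2; omega
    · refine Or.inr ⟨⟨(r ^ l)⁻¹, ?_⟩, ⟨(r ^ (l + 1))⁻¹, ?_⟩⟩
      · rw [inv_inv, conj_pow_mul hy hyr, hi, hy', mul_assoc, ← pow_succ']; congr 2; omega
      · rw [inv_inv, conj_pow_mul hx hxr, hi, hy', mul_assoc, ← pow_succ']; congr 2; omega
  · left
    obtain ⟨m, hm⟩ : ∃ m, m = x * r ^ (l + 1) := ⟨_, rfl⟩
    have hmm : m * m = 1 := by
      have e := conj_pow (a := x) (b := r) (i := l + 1)
      rw [hxi, hxr, inv_pow] at e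
      rw [hm, ← mul_assoc, ← e, inv_mul_cancel]
    have hmxm : m * x * m = y := by
      have e := conj_pow (a := x) (b := r) (i := l + 1)
      rw [hxi, hxr, inv_pow] at e
      rw [hy', show m * x * m = (x * r ^ (l + 1) * x) * (x * r ^ (l + 1)) by rw [hm], ← e,
        ← mul_assoc, conj_pow_mul hx hxr,
        show 2 * (l + 1) = orderOf r + 1 by omega, pow_succ, pow_orderOf_eq_one, one_mul]
    refine ⟨m, hmm, hmxm, ⟨m, by rw [inv_eq_of_mul_eq_one_right hmm, hmxm]⟩, fun w h1 h2 => ?_⟩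
    rw [hm]
    exact h1.mul_right ((hcomm w h1 h2).pow_right _)

end Dihedral

variable {G : Type u} {Ω : Type v} [Group G] [MulAction G Ω]

/-- The central elements of square one of the conjugate of `U` at `c`. -/
def Aat (a : Ω) (U : Subgroup G) (c : Ω) : Subgroup G where
  carrier := {z | z ∈ Uat a U c ∧ (∀ u ∈ Uat a U c, z * u = u * z) ∧ z * z = 1}
  one_mem' := ⟨one_mem _, fun u _ => by group, one_mul 1⟩
  mul_mem' := fun {x y} ⟨hx, hxc, hx2⟩ ⟨hy, hyc, hy2⟩ => ⟨mul_mem hx hy,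
    fun u hu => by rw [mul_assoc, hyc u hu, ← mul_assoc, hxc u hu, mul_assoc], by
    rw [show x * y * (x * y) = x * (y * x) * y by group, hyc x hx,
      show x * (x * y) * y = x * x * (y * y) by group, hx2, hy2, one_mul]⟩
  inv_mem' := fun {x} ⟨hx, hxc, hx2⟩ => by
    rw [inv_eq_of_mul_eq_one_right hx2]; exact ⟨hx, hxc, hx2⟩

variable {a : Ω} {U : Subgroup G}

theorem Aat_conj {z : G} {c : Ω} (hz : z ∈ Aat a U c) (h : G) :
    h * z * h⁻¹ ∈ Aat a U (h • c) := by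
  obtain ⟨hz1, hz2, hz3⟩ := hz
  refine ⟨conj_mem_Uat hz1 h, fun u hu => ?_, ?_⟩
  · have hu' := conj_mem_Uat hu h⁻¹
    rw [inv_smul_smul, inv_inv] at hu'
    have e := hz2 _ hu'
    calc h * z * h⁻¹ * u = h * (z * (h⁻¹ * u * h)) * h⁻¹ := by group
      _ = h * ((h⁻¹ * u * h) * z) * h⁻¹ := by rw [e]
      _ = u * (h * z * h⁻¹) := by group
  · rw [show h * z * h⁻¹ * (h * z * h⁻¹) = h * (z * z) * h⁻¹ by group, hz3]; group

namespace Split

variable (hU : Split a U) [FaithfulSMul G Ω] [Finite G]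

include hU

theorem Aat_fixes {z : G} {c : Ω} (hz : z ∈ Aat a U c) : z • c = c := hU.Uat_le c hz.1

theorem Aat_eq {z : G} {c d : Ω} (hz : z ∈ Aat a U c) (hz1 : z ≠ 1) (h : z • d = d) : d = c := by
  by_contra hd
  exact hz1 (hU.semiregular hz.1 hz.2.1 hd h)

/-- A conjugate of a central involution fixing `d` has centre `d`. -/
theorem Aat_of_conj {z w g : G} {c d : Ω} (hz : z ∈ Aat a U c) (hz1 : z ≠ 1)
    (e : g * z * g⁻¹ = w) (h : w • d = d) : w ∈ Aat a U d := by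
  have hw := e ▸ Aat_conj hz g
  have : d = g • c := hU.Aat_eq hw (fun h1 => hz1 (by
    rw [show z = g⁻¹ * (g * z * g⁻¹) * g by group, e, h1]; group)) h
  rwa [this]

/-- An element commuting with a central involution fixes its centre. -/
theorem fix_of_commute {z w : G} {c : Ω} (hz : z ∈ Aat a U c) (hz1 : z ≠ 1) (h : Commute w z) :
    w • c = c :=
  hU.Aat_eq hz hz1 (by rw [← mul_smul, ← h.eq, mul_smul, hU.Aat_fixes hz])

theorem commute_of_fix {x z : G} {c : Ω} (hx : x ∈ Uat a U c) (hz : z ∈ Aat a U c) : Commute x z :=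
  (hz.2.1 x hx).symm

/-- Central involutions with different centres have a midpoint. -/
theorem exists_midpoint {y y' : G} {c d : Ω} (hcd : c ≠ d) (hy : y ∈ Aat a U c) (hy1 : y ≠ 1)
    (hy' : y' ∈ Aat a U d) (hy1' : y' ≠ 1) :
    ∃ m, m * m = 1 ∧ m * y * m = y' ∧ m • c = d ∧ m • d = c ∧
      ∀ w, Commute w y → Commute w y' → Commute w m := by
  rcases dihedral_cases hy.2.2 hy'.2.2 with ⟨m, hmm, hm, -, hcomm⟩ | ⟨i, hi1, hii, hic, hid, h⟩
  · have hmc : m • c = d := hU.Aat_eq hy' hy1' (by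
      rw [← hm, mul_smul, mul_smul, ← mul_smul m m, hmm, one_smul, hU.Aat_fixes hy])
    exact ⟨m, hmm, hm, hmc, by rw [← hmc, ← mul_smul, hmm, one_smul], hcomm⟩
  · exfalso
    have hfc := hU.fix_of_commute hy hy1 hic
    have hfd := hU.fix_of_commute hy' hy1' hid
    have hfix : (y * i) • c = c := by rw [mul_smul, hfc, hU.Aat_fixes hy]
    have hyiA : y * i ∈ Aat a U c := by
      rcases h with ⟨⟨g, e⟩, -⟩ | ⟨⟨g, e⟩, -⟩
      · exact hU.Aat_of_conj hy hy1 e hfix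
      · exact hU.Aat_of_conj hy' hy1' e hfix
    have hiA : i ∈ Aat a U c := by
      have := mul_mem (inv_mem hy) hyiA
      rwa [inv_mul_cancel_left] at this
    exact hcd.symm (hU.Aat_eq hiA hi1 hfd)

theorem odd_orderOf_mul {y y' : G} {c d : Ω} (hcd : c ≠ d) (hy : y ∈ Aat a U c) (hy1 : y ≠ 1)
    (hy' : y' ∈ Aat a U d) (hy1' : y' ≠ 1) : Odd (orderOf (y * y')) := by
  by_contra h
  rw [Nat.not_odd_iff_even] at h
  obtain ⟨m, hm⟩ := h
  have hpos : 0 < m := by have := orderOf_pos (y * y'); omega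
  obtain ⟨i, hi⟩ : ∃ i, i = (y * y') ^ m := ⟨_, rfl⟩
  have hii : i * i = 1 := by rw [hi, ← pow_add, ← hm, pow_orderOf_eq_one]
  have hi1 : i ≠ 1 := fun h => by
    have := Nat.le_of_dvd hpos (orderOf_dvd_of_pow_eq_one (hi ▸ h : (y * y') ^ m = 1))
    omega
  obtain ⟨k, -, hmc, -, -⟩ := hU.exists_midpoint hcd hy hy1 hy' hy1'
  -- `i` commutes with both, and `y i` is conjugate to `y` or to `y'`
  have hinv : ∀ z : G, z * z = 1 → z * (y * y') * z = (y * y')⁻¹ → Commute i z := fun z hz hzr => by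
    have e := conj_pow (a := z) (b := y * y') (i := m)
    rw [inv_eq_of_mul_eq_one_right hz, hzr, inv_pow, ← hi, inv_eq_of_mul_eq_one_right hii] at e
    calc i * z = z * i * z * z := by rw [← e]
      _ = z * i := by rw [mul_assoc _ z z, hz, mul_one]
  have hyy : y * (y * y') * y = (y * y')⁻¹ := by
    rw [← mul_assoc, hy.2.2, one_mul, mul_inv_rev, inv_eq_of_mul_eq_one_right hy.2.2,
      inv_eq_of_mul_eq_one_right hy'.2.2]
  have hyy' : y' * (y * y') * y' = (y * y')⁻¹ := by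
    rw [show y' * (y * y') * y' = y' * y * (y' * y') by group, hy'.2.2, mul_one, mul_inv_rev,
      inv_eq_of_mul_eq_one_right hy.2.2, inv_eq_of_mul_eq_one_right hy'.2.2]
  have hic := hinv y hy.2.2 hyy
  have hid := hinv y' hy'.2.2 hyy'
  have hfc := hU.fix_of_commute hy hy1 hic
  have hfd := hU.fix_of_commute hy' hy1' hid
  have hfix : (y * i) • c = c := by rw [mul_smul, hfc, hU.Aat_fixes hy]
  have hconj : (∃ g : G, g * y * g⁻¹ = y * i) ∨ ∃ g : G, g * y' * g⁻¹ = y * i := by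
    rcases Nat.even_or_odd m with ⟨l, hl⟩ | ⟨l, hl⟩
    · refine Or.inl ⟨((y * y') ^ l)⁻¹, ?_⟩
      rw [inv_inv, conj_pow_mul hy.2.2 hyy, hi]; congr 2; omega
    · refine Or.inr ⟨((y * y') ^ l)⁻¹, ?_⟩
      rw [inv_inv, conj_pow_mul hy'.2.2 hyy', hi]
      conv_lhs => arg 1; rw [show y' = y * (y * y') by rw [← mul_assoc, hy.2.2, one_mul]]
      rw [mul_assoc, ← pow_succ']; congr 2; omega
  have hyiA : y * i ∈ Aat a U c := by
    rcases hconj with ⟨g, e⟩ | ⟨g, e⟩
    · exact hU.Aat_of_conj hy hy1 e hfix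
    · exact hU.Aat_of_conj hy' hy1' e hfix
  have hiA : i ∈ Aat a U c := by
    have := mul_mem (inv_mem hy) hyiA
    rwa [inv_mul_cancel_left] at this
  exact hcd.symm (hU.Aat_eq hiA hi1 hfd)

theorem Aat_ne_bot [Finite Ω] (hv : Odd (Nat.card Ω)) (c : Ω) : ∃ z ∈ Aat a U c, z ≠ 1 := by
  classical
  suffices ∃ z ∈ Aat a U a, z ≠ 1 by
    obtain ⟨z, hz, hz1⟩ := this
    obtain ⟨g, rfl⟩ := hU.exists_smul c
    exact ⟨g * z * g⁻¹, Aat_conj hz g, fun h => hz1 (by
      rw [show z = g⁻¹ * (g * z * g⁻¹) * g by group, h]; group)⟩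
  obtain ⟨b, hb⟩ := hU.exists_ne
  haveI : Fact (Nat.Prime 2) := ⟨Nat.prime_two⟩
  haveI := Fintype.ofFinite Ω
  have horb : orbit U b = {c | c ≠ a} := by
    ext c
    constructor
    · rintro ⟨u, rfl⟩ h
      have h' : (u : G) • b = (u : G) • a := (h : (u : G) • b = a).trans (hU.le u.2).symm
      exact hb ((smul_left_cancel_iff _).1 h')
    · intro hc
      obtain ⟨u, hu, h⟩ := hU.trans b c hb hc
      exact ⟨⟨u, hu⟩, h⟩
  have heven : 2 ∣ Nat.card U := by
    rw [← Nat.card_congr (orbitProdStabilizerEquivGroup U b), Nat.card_prod, horb]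
    refine Dvd.dvd.mul_right ?_ _
    rw [show Nat.card {c : Ω | c ≠ a} = Nat.card {c : Ω // c ≠ a} from rfl,
        Nat.card_eq_fintype_card, Fintype.card_subtype_compl, Fintype.card_subtype_eq]
    rw [Nat.card_eq_fintype_card] at hv
    obtain ⟨k, hk⟩ := hv
    rw [hk]
    exact ⟨k, by omega⟩
  haveI := hU.nil
  obtain ⟨S⟩ : Nonempty (Sylow 2 U) := Sylow.nonempty
  haveI : (S : Subgroup U).Normal := inferInstance
  have hS : (S : Subgroup U) ≠ ⊥ := S.ne_bot_of_dvd_card heven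
  obtain ⟨w, hw⟩ := Subgroup.ne_bot_iff_exists_ne_one.1 (Solvable.inf_center_ne_bot hS)
  obtain ⟨k, hk⟩ := IsPGroup.iff_orderOf.1 S.isPGroup' ⟨w.1, w.2.1⟩
  rw [Subgroup.orderOf_mk] at hk
  have hk0 : k ≠ 0 := fun h => hw (Subtype.ext (orderOf_eq_one_iff.1 (by rw [hk, h, pow_zero])))
  obtain ⟨z, hz⟩ : ∃ z, z = w.1 ^ 2 ^ (k - 1) := ⟨_, rfl⟩
  have hzc : z ∈ Subgroup.center U := hz ▸ pow_mem w.2.2 _
  have hzz : z * z = 1 := by
    rw [hz, ← pow_add, ← two_mul, ← pow_succ', show k - 1 + 1 = k by omega, ← hk, pow_orderOf_eq_one]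
  have hz1 : z ≠ 1 := fun h => by
    rw [hz] at h
    have := orderOf_dvd_of_pow_eq_one h
    rw [hk, Nat.pow_dvd_pow_iff_le_right (by norm_num)] at this
    omega
  refine ⟨z, ⟨(hU.Uat_self).symm ▸ z.2, fun u hu => ?_, congrArg Subtype.val hzz⟩,
    fun h => hz1 (Subtype.ext h)⟩
  exact (congrArg Subtype.val (Subgroup.mem_center_iff.1 hzc ⟨u, hU.mem_U_of_eq hu⟩)).symm

theorem card_Aat (c : Ω) : Nat.card (Aat a U c) = Nat.card (Aat a U a) := by
  obtain ⟨g, rfl⟩ := hU.exists_smul c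
  refine Nat.card_congr
    { toFun := fun z => ⟨g⁻¹ * z * g, by
        have := Aat_conj z.2 g⁻¹
        rwa [inv_smul_smul, inv_inv] at this⟩
      invFun := fun z => ⟨g * z * g⁻¹, Aat_conj z.2 g⟩
      left_inv := fun z => Subtype.ext (by group)
      right_inv := fun z => Subtype.ext (by group) }

theorem isPGroup_Aat (c : Ω) : IsPGroup 2 (Aat a U c) := fun z =>
  ⟨1, Subtype.ext (by rw [pow_one, Subgroup.coe_pow, pow_two]; exact z.2.2.2)⟩

variable [Finite Ω] [IsSimpleGroup G]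

/-- There are at least three central involutions with given centre (Glauberman's `Z*`). -/
theorem exists_third (hv : Odd (Nat.card Ω)) {c : Ω} {y : G} (hy : y ∈ Aat a U c) :
    ∃ z ∈ Aat a U c, z ≠ 1 ∧ z ≠ y := by
  obtain ⟨z₀, hz₀, hz₀1⟩ := hU.Aat_ne_bot hv c
  by_contra! h
  have hy1 : y ≠ 1 := fun h1 => hz₀1 ((h z₀ hz₀ hz₀1).trans h1)
  haveI : Fact (Nat.Prime 2) := ⟨Nat.prime_two⟩
  have hy2 : orderOf y = 2 := orderOf_eq_prime (by rw [pow_two, hy.2.2]) hy1
  obtain ⟨P, hP⟩ := (IsPGroup.of_card (n := 1)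
    (by rw [Nat.card_zpowers, hy2, pow_one]) : IsPGroup 2 (Subgroup.zpowers y)).exists_le_sylow
  have hyP : y ∈ P := hP (Subgroup.mem_zpowers y)
  -- the Sylow subgroup fixes a point, which is `c`
  obtain ⟨d, hd⟩ := P.isPGroup'.nonempty_fixed_point_of_prime_not_dvd_card Ω
    (by rw [← even_iff_two_dvd, Nat.not_even_iff_odd]; exact hv)
  have hdc : d = c := hU.Aat_eq hy hy1 (hd ⟨y, hyP⟩)
  obtain ⟨N, hN, hodd, hc⟩ := CfsgLib.ZStar.exists_oddNormal_of_sylow P hy2 hyP fun g hg => by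
    have hA := hU.Aat_of_conj hy hy1 rfl (hd ⟨_, hg⟩)
    rw [hdc] at hA
    exact h _ hA fun h1 => hy1 (by rw [show y = g⁻¹ * (g * y * g⁻¹) * g by group, h1]; group)
  rcases hN.eq_bot_or_eq_top with h1 | h1
  · rw [h1] at hc
    have hyc : y ∈ Subgroup.center G := Subgroup.mem_center_iff.2 fun g => by
      have h2 := Subgroup.mem_bot.1 (hc g)
      rw [mul_inv_eq_one, mul_inv_eq_iff_eq_mul] at h2
      exact h2.symm
    -- `y` fixes every point
    refine hy1 (eq_of_smul_eq_smul (α := Ω) fun e => ?_)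
    rw [one_smul]
    obtain ⟨g, rfl⟩ := hU.exists_smul e
    obtain ⟨g', hg'⟩ := hU.exists_smul c
    have hya : y • a = a := by
      have := hU.Aat_fixes hy
      rw [← hg', ← mul_smul, ← Subgroup.mem_center_iff.1 hyc g', mul_smul] at this
      exact (smul_left_cancel_iff g').1 this
    rw [← mul_smul, ← Subgroup.mem_center_iff.1 hyc g, mul_smul, hya]
  · rw [h1, Subgroup.card_top] at hodd
    exact Nat.not_even_iff_odd.2 hodd (even_iff_two_dvd.2
      (hy2 ▸ orderOf_dvd_natCard y))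

theorem two_lt_card_Aat (hv : Odd (Nat.card Ω)) (c : Ω) : 2 < Nat.card (Aat a U c) := by
  classical
  obtain ⟨y, hy, hy1⟩ := hU.Aat_ne_bot hv c
  obtain ⟨z, hz, hz1, hzy⟩ := hU.exists_third hv hy
  haveI : Fintype (Aat a U c) := Fintype.ofFinite _
  rw [Nat.card_eq_fintype_card, Fintype.two_lt_card_iff]
  exact ⟨1, ⟨y, hy⟩, ⟨z, hz⟩, fun h => hy1 (congrArg Subtype.val h).symm,
    fun h => hz1 (congrArg Subtype.val h).symm, fun h => hzy (congrArg Subtype.val h).symm⟩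

/-- Elements fixing two points and commuting with what centralises their central involutions,
transitive on the central involutions of the first point. -/
theorem exists_move (hv : Odd (Nat.card Ω)) {c d : Ω} (hcd : c ≠ d) {y₁ y₂ : G}
    (hy₁ : y₁ ∈ Aat a U c) (hy₁' : y₁ ≠ 1) (hy₂ : y₂ ∈ Aat a U c) (hy₂' : y₂ ≠ 1) :
    ∃ k, k • c = c ∧ k • d = d ∧ k * y₁ * k⁻¹ = y₂ ∧
      ∀ w, (∀ z ∈ Aat a U c, Commute w z) → (∀ z ∈ Aat a U d, Commute w z) → Commute w k := by
  obtain ⟨y, hy, hy'⟩ := hU.Aat_ne_bot hv d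
  obtain ⟨m₁, hm₁, e₁, hc₁, hd₁, hw₁⟩ := hU.exists_midpoint hcd hy₁ hy₁' hy hy'
  obtain ⟨m₂, hm₂, e₂, hc₂, hd₂, hw₂⟩ := hU.exists_midpoint hcd hy₂ hy₂' hy hy'
  refine ⟨m₂ * m₁, by rw [mul_smul, hc₁, hd₂], by rw [mul_smul, hd₁, hc₂], ?_,
    fun w h1 h2 => (hw₂ w (h1 _ hy₂) (h2 _ hy)).mul_right (hw₁ w (h1 _ hy₁) (h2 _ hy))⟩
  rw [mul_inv_rev, inv_eq_of_mul_eq_one_right hm₁, inv_eq_of_mul_eq_one_right hm₂,
    show m₂ * m₁ * y₁ * (m₁ * m₂) = m₂ * (m₁ * y₁ * m₁) * m₂ by group, e₁, ← e₂]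
  rw [show m₂ * (m₂ * y₂ * m₂) * m₂ = m₂ * m₂ * y₂ * (m₂ * m₂) by group, hm₂]; group

/-- An element interchanging two points, commuting with what centralises both groups. -/
theorem exists_swap (hv : Odd (Nat.card Ω)) {c d : Ω} (hcd : c ≠ d) :
    ∃ m, m * m = 1 ∧ m • c = d ∧ m • d = c ∧
      ∀ w, (∀ z ∈ Aat a U c, Commute w z) → (∀ z ∈ Aat a U d, Commute w z) → Commute w m := by
  obtain ⟨y, hy, hy'⟩ := hU.Aat_ne_bot hv c
  obtain ⟨y', hy₂, hy₂'⟩ := hU.Aat_ne_bot hv d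
  obtain ⟨m, hm, -, hc, hd, hw⟩ := hU.exists_midpoint hcd hy hy' hy₂ hy₂'
  exact ⟨m, hm, hc, hd, fun w h1 h2 => hw w (h1 _ hy) (h2 _ hy₂)⟩

end Split

end CfsgLib.SplitRankOne
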