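import Cfsg.Agent.SplitRankOne.Invol
import Cfsg.Prelude.Def_LieRecognition

/-!
# The line through two points, and the odd part of `U`

`X = U ∩ G_c` has the line `L = Fix X`; the group `N(X)` induces a rank one set-up on `L`. If the
kernels of rank one set-ups are 2-groups, then `U` is a 2-group unless `U` is regular on the other
points.
-/

set_option autoImplicit false
set_option linter.style.haveILetI false
set_option linter.unusedSectionVars false

namespace CfsgLib.SplitRankOne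

open MulAction

universe u v

/-- The hypothesis on rank one set-ups: the kernel is a 2-group. -/
def KernelTwo : Prop :=
  ∀ (H : Type v) [Group H] [Finite H] (Λ : Type v) [MulAction H Λ] [FaithfulSMul H Λ]
    (a : Λ) (t : H) (Q : Subgroup H), Cfsg.IsRankOneSetup H Λ a t Q →
    (∃ x y : H, x ≠ 1 ∧ y ≠ 1 ∧ x ≠ y ∧ x * x = 1 ∧ y * y = 1 ∧ x * y = y * x) → IsPGroup 2 Q

variable {G : Type u} {Ω : Type v} [Group G] [MulAction G Ω]

/-- The pointwise stabiliser in the group at `c` of the point `d`. -/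
def Xat (a : Ω) (U : Subgroup G) (c d : Ω) : Subgroup G := Uat a U c ⊓ stabilizer G d

/-- The points fixed by `X(c, d)`. -/
def line (a : Ω) (U : Subgroup G) (c d : Ω) : Set Ω :=
  {e | ∀ x ∈ Xat a U c d, x • e = e}

variable {a : Ω} {U : Subgroup G}

namespace Split

variable (hU : Split a U) [FaithfulSMul G Ω] [Finite G]

include hU

theorem Xat_symm {c d : Ω} (hcd : c ≠ d) : Xat a U c d = Xat a U d c := by
  ext x
  exact ⟨fun hx => ⟨hU.symm hcd hx.1 hx.2, hU.Uat_le c hx.1⟩,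
    fun hx => ⟨hU.symm hcd.symm hx.1 hx.2, hU.Uat_le d hx.1⟩⟩

theorem conj_mem_Xat {c d : Ω} {x : G} (hx : x ∈ Xat a U c d) (h : G) :
    h * x * h⁻¹ ∈ Xat a U (h • c) (h • d) := by
  refine ⟨conj_mem_Uat hx.1 h, ?_⟩
  show (h * x * h⁻¹) • h • d = h • d
  rw [mul_smul, mul_smul, inv_smul_smul, mem_stabilizer_iff.1 hx.2]

theorem card_Xat_congr {c d c' d' : Ω} {h : G} (hc : h • c = c') (hd : h • d = d') :
    Nat.card (Xat a U c d) = Nat.card (Xat a U c' d') := by
  refine Nat.card_congr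
    { toFun := fun x => ⟨h * x * h⁻¹, hc ▸ hd ▸ hU.conj_mem_Xat x.2 h⟩
      invFun := fun x => ⟨h⁻¹ * x * h, by
        have := hU.conj_mem_Xat x.2 h⁻¹
        rw [inv_smul_eq_iff.2 hc.symm, inv_smul_eq_iff.2 hd.symm, inv_inv] at this
        exact this⟩
      left_inv := fun x => Subtype.ext (by group)
      right_inv := fun x => Subtype.ext (by group) }

/-- Two points of the line determine it. -/
theorem Xat_eq_of_mem_line {c d e : Ω} (hcd : c ≠ d) (hec : e ≠ c) (he : e ∈ line a U c d) :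
    Xat a U c e = Xat a U c d := by
  obtain ⟨h, hhc, hhe⟩ := hU.exists_pair hcd hec.symm
  refine (Subgroup.eq_of_le_of_card_ge (H := Xat a U c d) (K := Xat a U c e)
    (fun x hx => Subgroup.mem_inf.2 ⟨hx.1, mem_stabilizer_iff.2 (he x hx)⟩) ?_).symm
  exact (hU.card_Xat_congr hhc hhe).ge

theorem Xat_eq_of_mem_line₂ {c d e f : Ω} (hcd : c ≠ d) (hef : e ≠ f) (he : e ∈ line a U c d)
    (hf : f ∈ line a U c d) : Xat a U e f = Xat a U c d := by
  rcases eq_or_ne e c with rfl | hec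
  · exact hU.Xat_eq_of_mem_line hcd hef.symm hf
  have h1 : Xat a U e c = Xat a U c d := by
    rw [hU.Xat_symm hec, hU.Xat_eq_of_mem_line hcd hec he]
  have h2 : f ∈ line a U e c := fun x hx => hf x (h1 ▸ hx)
  rw [hU.Xat_eq_of_mem_line hec hef.symm h2, h1]

theorem Xat_le_Uat {c d e : Ω} (hcd : c ≠ d) (he : e ∈ line a U c d) :
    Xat a U c d ≤ Uat a U e := fun x hx => by
  rcases eq_or_ne e c with rfl | hec
  · exact hx.1
  · exact hU.symm hec.symm hx.1 (he x hx)

theorem mem_line_left {c d : Ω} : c ∈ line a U c d := fun _ hx => hU.Uat_le c hx.1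

theorem mem_line_right {c d : Ω} : d ∈ line a U c d := fun _ hx => hx.2

theorem commute_Aat {c d e : Ω} (hcd : c ≠ d) (he : e ∈ line a U c d) {x z : G}
    (hx : x ∈ Xat a U c d) (hz : z ∈ Aat a U e) : Commute x z :=
  hU.commute_of_fix (hU.Xat_le_Uat hcd he hx) hz

theorem normalizer_mem_line {c d e : Ω} {g : G}
    (hg : g ∈ Subgroup.normalizer (Xat a U c d : Set G)) (he : e ∈ line a U c d) :
    g • e ∈ line a U c d := fun x hx => by
  have h := he (g⁻¹ * x * g) ((Subgroup.mem_normalizer_iff.1 hg _).2 (by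
    rwa [show g * (g⁻¹ * x * g) * g⁻¹ = x by group]))
  calc x • g • e = g • (g⁻¹ * x * g) • e := by rw [← mul_smul, ← mul_smul]; congr 1; group
    _ = g • e := by rw [h]

/-- An element fixing `c` and moving `d` inside the line normalises `X(c, d)`. -/
theorem mem_normalizer_of_line {c d : Ω} {g : G} (hcd : c ≠ d) (hgc : g • c = c)
    (hgd : g • d ∈ line a U c d) : g ∈ Subgroup.normalizer (Xat a U c d : Set G) := by
  have hne : g • d ≠ c := fun h =>
    hcd ((smul_left_cancel_iff g).1 (hgc.trans h.symm))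
  have e := hU.Xat_eq_of_mem_line hcd hne hgd
  have hf : ∀ x ∈ Xat a U c d, g * x * g⁻¹ ∈ Xat a U c d := fun x hx => by
    have := hU.conj_mem_Xat hx g
    rwa [hgc, e] at this
  rw [Subgroup.mem_normalizer_iff]
  refine fun x => ⟨hf x, fun hx => ?_⟩
  have := hU.conj_mem_Xat (e ▸ hx : g * x * g⁻¹ ∈ Xat a U c (g • d)) g⁻¹
  rwa [inv_smul_smul, inv_smul_eq_iff.2 hgc.symm,
    show g⁻¹ * (g * x * g⁻¹) * g⁻¹⁻¹ = x by group] at this

theorem mem_normalizer_of_commute {c d : Ω} {g : G}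
    (hg : ∀ x ∈ Xat a U c d, Commute x g) : g ∈ Subgroup.normalizer (Xat a U c d : Set G) :=
  Subgroup.centralizer_le_normalizer _ (Subgroup.mem_centralizer_iff.2 fun x hx => (hg x hx).eq)

variable [Finite Ω] [IsSimpleGroup G]

/-- In the normaliser of `X(a, b)` the image of `U` is a 2-group. -/
theorem pow_two_mem_Xat (hv : Odd (Nat.card Ω)) (hO : KernelTwo.{v}) {b : Ω} (hb : b ≠ a) {u : G}
    (hu : u ∈ U) (hun : u ∈ Subgroup.normalizer (Xat a U a b : Set G)) :
    ∃ k : ℕ, u ^ 2 ^ k ∈ Xat a U a b := by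
  classical
  obtain ⟨M, hM⟩ : ∃ M, M = Subgroup.normalizer (Xat a U a b : Set G) := ⟨_, rfl⟩
  let L : SubMulAction M Ω :=
    { carrier := line a U a b
      smul_mem' := fun m x hx =>
        hU.normalizer_mem_line (g := (m : G)) (by rw [← hM]; exact m.2) hx }
  let a' : L := ⟨a, hU.mem_line_left⟩
  let b' : L := ⟨b, hU.mem_line_right⟩
  let φ : M →* Equiv.Perm L := toPermHom M L
  haveI : FaithfulSMul φ.range L := ⟨fun {x y} h => Subtype.ext (Equiv.ext h)⟩
  have hφ : ∀ (m : M) (x : L), ((φ.rangeRestrict m) • x : L).1 = (m : G) • x.1 := fun _ _ => rfl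
  have hfixX : ∀ m : M, (m : G) ∈ Xat a U a b → φ.rangeRestrict m = 1 := fun m hm =>
    eq_of_smul_eq_smul (α := L) fun x => by
      rw [one_smul]; exact Subtype.ext ((hφ m x).trans (x.2 _ hm))
  -- transitivity
  have hUnorm : ∀ d : Ω, d ≠ a → d ∈ line a U a b → ∀ e : Ω, e ≠ a → e ∈ line a U a b →
      ∃ m : M, (m : G) ∈ U ∧ (m : G) • d = e := by
    intro d hd hdL e he heL
    obtain ⟨w, hw, hwd⟩ := hU.trans d e hd he
    have hdX := hU.Xat_eq_of_mem_line₂ hb.symm hd.symm hU.mem_line_left hdL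
    refine ⟨⟨w, hM ▸ ?_⟩, hw, hwd⟩
    have := hU.mem_normalizer_of_line (c := a) (d := d) hd.symm (hU.le hw)
      (hwd ▸ fun x hx => heL x (hdX ▸ hx))
    rwa [hdX] at this
  obtain ⟨t₀, htt, hta, htb, htw⟩ := hU.exists_swap hv hb.symm
  have htM : t₀ ∈ M := hM ▸ hU.mem_normalizer_of_commute fun x hx =>
    htw x (fun z hz => hU.commute_Aat hb.symm hU.mem_line_left hx hz)
      (fun z hz => hU.commute_Aat hb.symm hU.mem_line_right hx hz)
  set t : φ.range := φ.rangeRestrict ⟨t₀, htM⟩ with ht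
  have htab : t • a' = b' := Subtype.ext ((hφ _ _).trans hta)
  let Q : Subgroup φ.range := (U.subgroupOf M).map φ.rangeRestrict
  have hQle : Q ≤ stabilizer φ.range a' := by
    rintro _ ⟨m, hm, rfl⟩
    exact Subtype.ext ((hφ m a').trans (hU.le hm))
  have hba' : b' ≠ a' := fun h => hb (congrArg Subtype.val h)
  have hQtrans : ∀ d e : L, d ≠ a' → e ≠ a' → ∃ q ∈ Q, q • d = e := by
    intro d e hd he
    obtain ⟨m, hm, h⟩ := hUnorm d.1 (fun h => hd (Subtype.ext h)) d.2 e.1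
      (fun h => he (Subtype.ext h)) e.2
    exact ⟨_, ⟨m, hm, rfl⟩, Subtype.ext ((hφ m d).trans h)⟩
  have htrans : ∀ d : L, ∃ q : φ.range, q • d = a' := by
    intro d
    by_cases hd : d = a'
    · exact ⟨1, by rw [one_smul, hd]⟩
    · obtain ⟨q, -, hq⟩ := hQtrans d b' hd hba'
      exact ⟨t * q, by
        rw [mul_smul, hq]
        exact Subtype.ext ((hφ _ _).trans htb)⟩
  have hsetup : Cfsg.IsRankOneSetup φ.range L a' t Q := by
    refine ⟨?_, ?_, ?_, ?_, hQle, ?_, ?_, ?_, ?_, ?_⟩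
    · rw [is_two_pretransitive_iff]
      intro x y z w hxy hzw
      obtain ⟨g, hg⟩ := htrans x
      obtain ⟨k, hk⟩ := htrans z
      obtain ⟨q, hq, hqy⟩ := hQtrans (g • y) (k • w)
        (fun h => hxy (smul_left_cancel g (hg.trans h.symm)))
        (fun h => hzw (smul_left_cancel k (hk.trans h.symm)))
      refine ⟨k⁻¹ * (q * g), ?_, ?_⟩
      · rw [mul_smul, mul_smul, hg, hQle hq, inv_smul_eq_iff, hk]
      · rw [mul_smul, mul_smul, hqy, inv_smul_smul]
    · rw [ht, ← map_mul, show (⟨t₀, htM⟩ : M) * ⟨t₀, htM⟩ = 1 from Subtype.ext htt, map_one]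
    · intro h
      rw [h, one_smul] at htab
      exact hba' htab.symm
    · exact fun h => hba' (htab.symm.trans h)
    · rintro h hh x ⟨m, hm, rfl⟩
      obtain ⟨⟨n, hn⟩, rfl⟩ := φ.rangeRestrict_surjective h
      have hna : n • a = a := congrArg Subtype.val (hh : φ.rangeRestrict ⟨n, hn⟩ • a' = a')
      refine ⟨⟨n, hn⟩ * m * ⟨n, hn⟩⁻¹, ?_, by rw [map_mul, map_mul, map_inv]⟩
      exact hU.conj_mem n hna _ hm
    · rw [eq_bot_iff]
      rintro x ⟨⟨m, hm, rfl⟩, hx⟩
      replace hx : φ.rangeRestrict m • b' = b' := by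
        rw [SetLike.mem_coe, htab] at hx
        exact hx
      have hmb : (m : G) • b = b := congrArg Subtype.val hx
      rw [Subgroup.mem_bot]
      exact hfixX m ⟨(hU.Uat_self).symm ▸ hm, hmb⟩
    · rw [htab]
      refine le_antisymm (sup_le hQle inf_le_left) fun h hh => ?_
      have hha : h • a' = a' := hh
      obtain ⟨q, hq, hqb⟩ := hQtrans b' (h • b') hba'
        (fun e => hba' (smul_left_cancel h (e.trans hha.symm)))
      rw [show h = q * (q⁻¹ * h) by group]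
      refine Subgroup.mul_mem_sup hq
        (Subgroup.mem_inf.2 ⟨mul_mem (inv_mem (hQle hq)) hh, mem_stabilizer_iff.2 ?_⟩)
      rw [mul_smul, ← hqb, inv_smul_smul]
    · obtain ⟨y, hy, hy1⟩ := hU.Aat_ne_bot hv a
      have hyM : y ∈ M := hM ▸ hU.mem_normalizer_of_commute fun x hx =>
        hU.commute_Aat hb.symm hU.mem_line_left hx hy
      rw [even_iff_two_dvd]
      have h1 : φ.rangeRestrict ⟨y, hyM⟩ ≠ 1 := fun h => hb (hU.Aat_eq hy hy1
        ((hφ _ b').symm.trans (congrArg Subtype.val (by rw [h, one_smul]))))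
      have hmem : φ.rangeRestrict ⟨y, hyM⟩ ∈ Q := ⟨⟨y, hyM⟩, hU.mem_U_of_eq hy.1, rfl⟩
      have h2 : orderOf (⟨_, hmem⟩ : Q) = 2 := by
        rw [Subgroup.orderOf_mk]
        refine orderOf_eq_prime ?_ h1
        rw [pow_two, ← map_mul, show (⟨y, hyM⟩ : M) * ⟨y, hyM⟩ = 1 from Subtype.ext hy.2.2,
          map_one]
      exact h2 ▸ orderOf_dvd_natCard _
    · rw [htab, Nat.odd_iff, ← Nat.two_dvd_ne_zero]
      intro h
      haveI : Fact (Nat.Prime 2) := ⟨Nat.prime_two⟩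
      obtain ⟨⟨x, hx⟩, hx2⟩ := exists_prime_orderOf_dvd_card' 2 h
      rw [Subgroup.orderOf_mk] at hx2
      obtain ⟨⟨n, hn⟩, rfl⟩ := φ.rangeRestrict_surjective x
      have hna : n • a = a := congrArg Subtype.val (hx.1 : φ.rangeRestrict ⟨n, hn⟩ • a' = a')
      have hnb : n • b = b := congrArg Subtype.val (hx.2 : φ.rangeRestrict ⟨n, hn⟩ • b' = b')
      obtain ⟨N, hN, hm⟩ := hU.odd_pow n hna
      have h1 : φ.rangeRestrict ⟨n, hn⟩ ^ N = 1 := by
        rw [← map_pow]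
        exact hfixX _ ⟨(hU.Uat_self).symm ▸ hm, pow_mem (mem_stabilizer_iff.2 hnb) N⟩
      have := orderOf_dvd_of_pow_eq_one h1
      rw [hx2] at this
      exact Nat.not_even_iff_odd.2 hN (even_iff_two_dvd.2 this)
  have h2 : ∃ x y : φ.range, x ≠ 1 ∧ y ≠ 1 ∧ x ≠ y ∧ x * x = 1 ∧ y * y = 1 ∧ x * y = y * x := by
    obtain ⟨y, hy, hy1⟩ := hU.Aat_ne_bot hv a
    obtain ⟨z, hz, hz1, hzy⟩ := hU.exists_third hv hy
    have hm : ∀ {w : G}, w ∈ Aat a U a → w ∈ M := fun {w} hw =>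
      hM ▸ hU.mem_normalizer_of_commute fun x hx =>
        hU.commute_Aat hb.symm hU.mem_line_left hx hw
    have hinj : ∀ {w : G} (hw : w ∈ Aat a U a), φ.rangeRestrict ⟨w, hm hw⟩ = 1 → w = 1 :=
      fun {w} hw h => by
        by_contra h1
        exact hb (hU.Aat_eq hw h1 ((hφ ⟨w, hm hw⟩ b').symm.trans
          (congrArg Subtype.val (show φ.rangeRestrict ⟨w, hm hw⟩ • b' = b' by rw [h, one_smul]))))
    refine ⟨φ.rangeRestrict ⟨y, hm hy⟩, φ.rangeRestrict ⟨z, hm hz⟩, fun h => hy1 (hinj hy h),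
      fun h => hz1 (hinj hz h), fun h => hzy ?_, ?_, ?_, ?_⟩
    · have h' := hinj (mul_mem (inv_mem hz) hy) (by
        rw [show (⟨z⁻¹ * y, hm (mul_mem (inv_mem hz) hy)⟩ : M) = ⟨z, hm hz⟩⁻¹ * ⟨y, hm hy⟩ from rfl,
          map_mul, map_inv, h, inv_mul_cancel])
      exact inv_mul_eq_one.1 h'
    · rw [← map_mul, show (⟨y, hm hy⟩ : M) * ⟨y, hm hy⟩ = 1 from Subtype.ext hy.2.2, map_one]
    · rw [← map_mul, show (⟨z, hm hz⟩ : M) * ⟨z, hm hz⟩ = 1 from Subtype.ext hz.2.2, map_one]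
    · rw [← map_mul, ← map_mul]
      exact congrArg _ (Subtype.ext (hy.2.1 z hz.1))
  have hQ2 := hO φ.range L a' t Q hsetup h2
  have huM : u ∈ M := hM ▸ hun
  obtain ⟨k, hk⟩ := hQ2 ⟨φ.rangeRestrict ⟨u, huM⟩, ⟨u, huM⟩, hu, rfl⟩
  refine ⟨k, (hU.Uat_self).symm ▸ pow_mem hu _, ?_⟩
  have h1 : φ.rangeRestrict ⟨u, huM⟩ ^ 2 ^ k = 1 := congrArg Subtype.val hk
  have := (hφ (⟨u, huM⟩ ^ 2 ^ k) b').symm.trans
    (congrArg Subtype.val (by rw [map_pow, h1, one_smul]))
  exact this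

/-- `U` is a 2-group. -/
theorem isPGroup_two (hv : Odd (Nat.card Ω)) (hO : KernelTwo.{v}) {b : Ω} (hb : b ≠ a) :
    IsPGroup 2 U := by
  classical
  haveI : Fact (Nat.Prime 2) := ⟨Nat.prime_two⟩
  obtain ⟨S, hSU, hS, hSmax, -⟩ := NilpotentCover.exists_pGroup_of_mem (p := 2) hU.nil
  suffices hle : U ≤ S from hS.to_le hle
  intro x hx
  refine OddOrder.CN.mem_of_prime_pow_mem fun q k hq y hy hord => ?_
  have hyU : y ∈ U := Subgroup.zpowers_le.2 hx hy
  by_cases hq2 : q = 2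
  · exact hSmax y hyU ⟨k, hq2 ▸ hord⟩
  haveI := Fact.mk hq
  obtain ⟨P, hPU, hP, hmax, -⟩ := NilpotentCover.exists_pGroup_of_mem (p := q) hU.nil
  suffices P = ⊥ by
    have h1 := hmax y hyU ⟨k, hord⟩
    rw [this, Subgroup.mem_bot] at h1
    rw [h1]
    exact one_mem _
  have hodd : Odd q := hq.odd_of_ne_two hq2
  have hPord : ∀ p ∈ P, ∃ i, orderOf p = q ^ i := fun p hp => by
    obtain ⟨i, hi⟩ := IsPGroup.iff_orderOf.1 hP ⟨p, hp⟩
    exact ⟨i, by rwa [Subgroup.orderOf_mk] at hi⟩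
  have hXU : Xat a U a b ≤ U := fun z hz => hU.mem_U_of_eq hz.1
  -- an element of `P` normalising `P ∩ X` lies in `X`
  have hkey : ∀ w ∈ P, (∀ z ∈ P ⊓ Xat a U a b, w * z * w⁻¹ ∈ P ⊓ Xat a U a b) →
      w ∈ Xat a U a b := by
    intro w hw hwn
    have hn : ∀ z ∈ Xat a U a b, w * z * w⁻¹ ∈ Xat a U a b := by
      intro z hz
      suffices z ∈ (Xat a U a b).comap (MulAut.conj w).toMonoidHom from this
      refine OddOrder.CN.mem_of_prime_pow_mem fun r j hr p hp hpo => ?_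
      rw [Subgroup.mem_comap]
      show w * p * w⁻¹ ∈ Xat a U a b
      have hpX : p ∈ Xat a U a b := Subgroup.zpowers_le.2 hz hp
      by_cases hrq : r = q
      · exact (hwn p ⟨hmax p (hXU hpX) ⟨j, hrq ▸ hpo⟩, hpX⟩).2
      · obtain ⟨i, hi⟩ := hPord w hw
        have hc := NilpotentCover.commute_of_coprime_mem hU.nil (hPU hw) (hXU hpX)
          (by rw [hi, hpo]; exact ((Nat.coprime_primes hq hr).2 (Ne.symm hrq)).pow i j)
        rwa [hc.eq, mul_inv_cancel_right]
    have hN : w ∈ Subgroup.normalizer (Xat a U a b : Set G) := by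
      rw [Subgroup.mem_normalizer_iff]
      refine fun z => ⟨hn z, fun hz => ?_⟩
      obtain ⟨v, hv', hve⟩ : ∃ v ∈ Xat a U a b, w * v * w⁻¹ = w * z * w⁻¹ := by
        let f : Xat a U a b → Xat a U a b := fun v => ⟨w * v * w⁻¹, hn v v.2⟩
        have hf : Function.Injective f := fun u v h =>
          Subtype.ext (mul_left_cancel (mul_right_cancel (congrArg Subtype.val h)))
        obtain ⟨v, h⟩ := Finite.surjective_of_injective hf ⟨_, hz⟩
        exact ⟨v, v.2, congrArg Subtype.val h⟩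
      rwa [← mul_left_cancel (mul_right_cancel hve)]
    obtain ⟨i, hi⟩ := hU.pow_two_mem_Xat hv hO hb (hPU hw) hN
    obtain ⟨l, hl⟩ := hPord w hw
    obtain ⟨m, hm⟩ := exists_pow_eq_self_of_coprime (n := 2 ^ i) (x := w)
      (by rw [hl]; exact ((Nat.coprime_primes Nat.prime_two hq).2 (Ne.symm hq2)).pow i l)
    rw [← hm]
    exact pow_mem hi m
  have hPX : P ≤ Xat a U a b := by
    haveI : Group.IsNilpotent P := hP.isNilpotent
    by_contra hle
    set Y : Subgroup P := (Xat a U a b).subgroupOf P with hY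
    have hYne : Y < ⊤ := lt_top_iff_ne_top.2 fun h => hle (Subgroup.subgroupOf_eq_top.1 h)
    obtain ⟨w, hw, hwY⟩ := SetLike.exists_of_lt (Group.normalizerCondition_of_isNilpotent Y hYne)
    refine hwY (hkey w w.2 fun z hz => ?_)
    have := (Subgroup.mem_normalizer_iff.1 hw ⟨z, hz.1⟩).1 hz.2
    exact ⟨(w * ⟨z, hz.1⟩ * w⁻¹ : P).2, this⟩
  rw [Subgroup.eq_bot_iff_forall]
  intro p hp
  refine eq_of_smul_eq_smul (α := Ω) fun e => ?_
  rw [one_smul]
  by_cases he : e = a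
  · subst he; exact hU.le (hPU hp)
  · obtain ⟨w, hw, rfl⟩ := hU.trans b e hb he
    obtain ⟨i, hi⟩ := hPord p hp
    have hw' : w⁻¹ * p * w ∈ P := hmax _ (mul_mem (mul_mem (inv_mem hw) (hPU hp)) hw)
      ⟨i, by
        rw [← hi]
        have := orderOf_conj w⁻¹ p
        rwa [inv_inv] at this⟩
    have hb' : (w⁻¹ * p * w) • b = b := (hPX hw').2
    rw [mul_smul, mul_smul, inv_smul_eq_iff] at hb'
    exact hb'

end Split

end CfsgLib.SplitRankOne
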