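import Cfsg.Agent.SplitRankOne.Count
import Cfsg.Agent.Small.ThompsonTransfer

/-!
# The regularity theorem

In a simple doubly transitive group of odd degree, a nilpotent normal subgroup of odd index in a
point stabiliser that is transitive on the other points is regular on them (given that rank one
kernels are 2-groups).
-/

set_option autoImplicit false
set_option linter.style.haveILetI false
set_option linter.unusedSectionVars false

namespace CfsgLib.SplitRankOne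

open MulAction

universe u v

variable {G : Type u} {Ω : Type v} [Group G] [MulAction G Ω] {a : Ω} {U : Subgroup G}

namespace Split

variable (hU : Split a U) [FaithfulSMul G Ω] [Finite G]

include hU

/-- A maximal subgroup over `W` missing `x` has relative index two when squares lie in `W`. -/
theorem exists_relIndex_two {W : Subgroup G} (hWU : W ≤ U) {x : G} (hxU : x ∈ U) (hxW : x ∉ W)
    (hsq : ∀ g ∈ U, g * g ∈ W) :
    ∃ M : Subgroup G, W ≤ M ∧ M ≤ U ∧ x ∉ M ∧ M.relIndex U = 2 := by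
  classical
  obtain ⟨M, hWM, hmax⟩ := Finite.exists_le_maximal
    (p := fun M : Subgroup G => W ≤ M ∧ M ≤ U ∧ x ∉ M) (a := W) ⟨le_rfl, hWU, hxW⟩
  obtain ⟨⟨-, hMU, hxM⟩, hmax⟩ := hmax
  refine ⟨M, hWM, hMU, hxM, ?_⟩
  have hcomm : ∀ g ∈ U, ∀ m ∈ M, g * m * g⁻¹ ∈ M := by
    intro g hg m hm
    rw [show g * m * g⁻¹ = g * g * ((g⁻¹ * m) * (g⁻¹ * m)) * (m⁻¹ * m⁻¹) * m by group]
    refine mul_mem (mul_mem (mul_mem (hWM (hsq g hg)) ?_) ?_) hm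
    · exact hWM (hsq _ (mul_mem (inv_mem hg) (hMU hm)))
    · exact hWM (hsq _ (inv_mem (hMU hm)))
  have key : ∀ g ∈ U, g ∉ M → x * g⁻¹ ∈ M := by
    intro g hg hgM
    let M' : Subgroup G :=
      { carrier := {u | u ∈ M ∨ u * g⁻¹ ∈ M}
        one_mem' := Or.inl (one_mem M)
        mul_mem' := by
          rintro u w (hu | hu) (hw | hw)
          · exact Or.inl (mul_mem hu hw)
          · exact Or.inr (by rw [mul_assoc]; exact mul_mem hu hw)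
          · refine Or.inr ?_
            rw [show u * w * g⁻¹ = (u * g⁻¹) * (g * w * g⁻¹) by group]
            exact mul_mem hu (hcomm g hg w hw)
          · refine Or.inl ?_
            rw [show u * w = (u * g⁻¹) * (g * (w * g⁻¹) * g⁻¹) * (g * g) by group]
            exact mul_mem (mul_mem hu (hcomm g hg _ hw)) (hWM (hsq g hg))
        inv_mem' := by
          rintro u (hu | hu)
          · exact Or.inl (inv_mem hu)
          · refine Or.inr ?_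
            rw [show u⁻¹ * g⁻¹ = (g⁻¹ * (u * g⁻¹)⁻¹ * g) * (g * g)⁻¹ by group]
            refine mul_mem ?_ (inv_mem (hWM (hsq g hg)))
            have := hcomm g⁻¹ (inv_mem hg) _ (inv_mem hu)
            rwa [inv_inv] at this }
    have hM'U : M' ≤ U := by
      rintro u (hu | hu)
      · exact hMU hu
      · have := mul_mem (hMU hu) hg
        rwa [inv_mul_cancel_right] at this
    by_contra hxg
    have hle : M ≤ M' := fun u hu => Or.inl hu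
    have hle' : M' ≤ M := hmax ⟨hWM.trans hle, hM'U, fun h => h.elim hxM hxg⟩ hle
    exact hgM (hle' (Or.inr (by rw [mul_inv_cancel]; exact one_mem M)))
  rw [Subgroup.relIndex, Subgroup.index_eq_two_iff]
  refine ⟨⟨x, hxU⟩, fun g => ?_⟩
  rw [Subgroup.mem_subgroupOf, Subgroup.mem_subgroupOf, Subgroup.coe_mul]
  by_cases hg : (g : G) ∈ M
  · exact Or.inr ⟨hg, fun h => hxM (by simpa using mul_mem (inv_mem hg) h)⟩
  · refine Or.inl ⟨?_, hg⟩
    have h1 := key g g.2 hg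
    rw [show (g : G) * x = g * g * ((g⁻¹ : G) * (x * (g : G)⁻¹) * g) by group]
    refine mul_mem (hWM (hsq g g.2)) ?_
    have := hcomm (g : G)⁻¹ (inv_mem g.2) _ h1
    rwa [inv_inv] at this

variable [Finite Ω] [IsSimpleGroup G]

/-- A 2-group `U` is regular on the other points. -/
theorem Xat_eq_bot_of_two (hv : Odd (Nat.card Ω)) (hP : IsPGroup 2 U) {b : Ω} (hb : b ≠ a) :
    Xat a U a b = ⊥ := by
  classical
  haveI : Fact (Nat.Prime 2) := ⟨Nat.prime_two⟩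
  rw [Subgroup.eq_bot_iff_forall]
  intro x₁ hx₁
  by_contra hx₁1
  -- basic facts
  set A := Aat a U a with hAdef
  set X := Xat a U a b with hXdef
  have hAU : ∀ z ∈ A, z ∈ U := fun z hz => hU.mem_U_of_eq hz.1
  have hAc : ∀ z ∈ A, ∀ u ∈ U, z * u = u * z := fun z hz u hu => hz.2.1 u (hU.Uat_self.symm ▸ hu)
  have hA2 : ∀ z ∈ A, z * z = 1 := fun z hz => hz.2.2
  have hXU : ∀ x ∈ X, x ∈ U := fun x hx => hU.mem_U_of_eq hx.1
  have hXb : ∀ x ∈ X, x • b = b := fun x hx => hx.2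
  have hXmk : ∀ x ∈ U, x • b = b → x ∈ X := fun x hx h => ⟨hU.Uat_self.symm ▸ hx, h⟩
  have hAX : ∀ z ∈ A, z ∈ X → z = 1 := fun z hz hzX => by
    by_contra h
    exact hb (hU.Aat_eq hz h (hXb z hzX))
  have hinvol : ∀ x ∈ U, x ≠ 1 → ∃ m : ℕ, x ^ m ≠ 1 ∧ x ^ m * x ^ m = 1 := by
    intro x hx hx1
    obtain ⟨k, hk⟩ := IsPGroup.iff_orderOf.1 hP ⟨x, hx⟩
    rw [Subgroup.orderOf_mk] at hk
    obtain ⟨k, rfl⟩ : ∃ l, k = l + 1 := by
      refine ⟨k - 1, ?_⟩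
      rcases k with _ | k
      · exact absurd (orderOf_eq_one_iff.1 (by rw [hk, pow_zero])) hx1
      · omega
    refine ⟨2 ^ k, fun h => ?_, by rw [← pow_add, ← two_mul, ← pow_succ', ← hk, pow_orderOf_eq_one]⟩
    have := orderOf_dvd_of_pow_eq_one h
    rw [hk, Nat.pow_dvd_pow_iff_le_right (by norm_num)] at this
    omega
  obtain ⟨m₁, hm₁, hm₁'⟩ := hinvol x₁ (hXU _ hx₁) hx₁1
  obtain ⟨i₀, hi₀X, hi₀1, hi₀2⟩ : ∃ i₀ ∈ X, i₀ ≠ 1 ∧ i₀ * i₀ = 1 :=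
    ⟨_, pow_mem hx₁ m₁, hm₁, hm₁'⟩
  obtain ⟨e, hve, hcardU⟩ := hU.exists_pow_two hP hb
  have hfix2 : ∀ x ∈ X, x ≠ 1 → x * x = 1 → Nat.card {c : Ω // x • c = c} = Nat.card A + 1 ∧
      Nat.card Ω = Nat.card A ^ 3 + 1 := fun x hx hx1 hx2 =>
    hU.card_fixed hv hP hx2 hx1 hb.symm (hU.le (hXU x hx)) (hXb x hx)
  have hcardU : Nat.card U = Nat.card A ^ 3 * Nat.card X := by
    rw [hcardU]
    congr 1
    have := (hfix2 i₀ hi₀X hi₀1 hi₀2).2
    omega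
  have hq := hU.two_lt_card_Aat hv a
  rw [← hAdef] at hq
  -- the fixed points of an involution of `X`
  have hFix : ∀ x ∈ X, x ≠ 1 → x * x = 1 → ∀ c, c ≠ a → x • c = c → ∃ z ∈ A, z • b = c := by
    intro x hx hx1 hx2 c hca hxc
    have hzfix : ∀ z : A, x • (z : G) • b = (z : G) • b := fun z => by
      rw [← mul_smul, ← hAc z z.2 x (hXU x hx), mul_smul, hXb x hx]
    let f : Option A → {c : Ω // x • c = c} := fun o =>
      match o with
      | none => ⟨a, hU.le (hXU x hx)⟩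
      | some z => ⟨(z : G) • b, hzfix z⟩
    have hne : ∀ z : A, (z : G) • b ≠ a := fun z h =>
      hb ((smul_left_cancel_iff _).1 (h.trans (hU.le (hAU z z.2)).symm))
    have hf : Function.Injective f := by
      rintro (_ | z) (_ | z') h
      · rfl
      · exact absurd (congrArg Subtype.val h).symm (hne z')
      · exact absurd (congrArg Subtype.val h) (hne z)
      · have h' : (z : G) • b = (z' : G) • b := congrArg Subtype.val h
        by_contra hzz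
        refine hb (hU.Aat_eq (mul_mem (inv_mem z'.2) z.2) (fun h1 => hzz ?_)
          (by rw [mul_smul, h', inv_smul_smul]))
        rw [Subtype.ext (inv_mul_eq_one.1 h1)]
    have hbij : Function.Bijective f := (Nat.bijective_iff_injective_and_card f).2
      ⟨hf, by rw [Finite.card_option, (hfix2 x hx hx1 hx2).1]⟩
    obtain ⟨o, ho⟩ := hbij.2 ⟨c, hxc⟩
    rcases o with _ | z
    · exact absurd (congrArg Subtype.val ho).symm hca
    · exact ⟨z, z.2, congrArg Subtype.val ho⟩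
  -- `V = A X`
  let V : Subgroup G :=
    { carrier := {u | ∃ z ∈ A, ∃ x ∈ X, u = z * x}
      one_mem' := ⟨1, one_mem _, 1, one_mem _, (one_mul 1).symm⟩
      mul_mem' := by
        rintro _ _ ⟨z, hz, x, hx, rfl⟩ ⟨z', hz', x', hx', rfl⟩
        refine ⟨z * z', mul_mem hz hz', x * x', mul_mem hx hx', ?_⟩
        rw [show z * x * (z' * x') = z * (x * z') * x' by group, ← hAc z' hz' x (hXU x hx)]
        group
      inv_mem' := by
        rintro _ ⟨z, hz, x, hx, rfl⟩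
        refine ⟨z⁻¹, inv_mem hz, x⁻¹, inv_mem hx, ?_⟩
        rw [mul_inv_rev, hAc z⁻¹ (inv_mem hz) x⁻¹ (hXU _ (inv_mem hx))] }
  have hAV : ∀ z ∈ A, z ∈ V := fun z hz => ⟨z, hz, 1, one_mem _, (mul_one z).symm⟩
  have hXV : ∀ x ∈ X, x ∈ V := fun x hx => ⟨1, one_mem _, x, hx, (one_mul x).symm⟩
  have hVU : ∀ w ∈ V, w ∈ U := by
    rintro _ ⟨z, hz, x, hx, rfl⟩
    exact mul_mem (hAU z hz) (hXU x hx)
  have hVmk : ∀ u ∈ U, ∀ z ∈ A, z • b = u • b → u ∈ V := fun u hu z hz h =>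
    ⟨z, hz, z⁻¹ * u, hXmk _ (mul_mem (inv_mem (hAU z hz)) hu)
      (by rw [mul_smul, ← h, inv_smul_smul]), by group⟩
  have hne_a : ∀ u ∈ U, u • b ≠ a := fun u hu h =>
    hb ((smul_left_cancel_iff u).1 (h.trans (hU.le hu).symm))
  -- centralisers and intersections
  have hC : ∀ x ∈ X, x ≠ 1 → x * x = 1 → ∀ u ∈ U, Commute u x → u ∈ V := by
    intro x hx hx1 hx2 u hu hc
    obtain ⟨z, hz, h⟩ := hFix x hx hx1 hx2 (u • b) (hne_a u hu)
      (by rw [← mul_smul, ← hc.eq, mul_smul, hXb x hx])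
    exact hVmk u hu z hz h
  have hTI : ∀ g ∈ U, ∀ x ∈ X, x ≠ 1 → x * x = 1 → g * x * g⁻¹ ∈ X → g ∈ V := by
    intro g hg x hx hx1 hx2 hgx
    obtain ⟨z, hz, h⟩ := hFix _ hgx (fun e => hx1 (by
        rw [show x = g⁻¹ * (g * x * g⁻¹) * g by group, e]; group))
      (by rw [show g * x * g⁻¹ * (g * x * g⁻¹) = g * (x * x) * g⁻¹ by group, hx2]; group)
      (g • b) (hne_a g hg) (by rw [mul_smul, mul_smul, inv_smul_smul, hXb x hx])
    exact hVmk g hg z hz h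
  have hconjX : ∀ i ∈ U, i * i = 1 → i ∉ A → ∃ u ∈ U, u⁻¹ * i * u ∈ X := by
    intro i hi hi2 hiA
    obtain ⟨c, hc, hic⟩ := hU.exists_fixed_ne hv hP hb hi₀2 hi₀1 (hU.le (hXU _ hi₀X))
      (hXb _ hi₀X) hi2 (hU.le hi) hiA
    obtain ⟨u, hu, huc⟩ := hU.trans b c hb hc
    exact ⟨u, hu, hXmk _ (mul_mem (mul_mem (inv_mem hu) hi) hu)
      (by rw [mul_smul, mul_smul, huc, hic, ← huc, inv_smul_smul])⟩
  have hcardV : Nat.card V ≤ Nat.card A * Nat.card X := by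
    rw [← Nat.card_prod]
    refine Nat.card_le_card_of_surjective
      (fun p => (⟨p.1.1 * p.2.1, p.1, p.1.2, p.2, p.2.2, rfl⟩ : V)) ?_
    rintro ⟨_, z, hz, x, hx, rfl⟩
    exact ⟨(⟨z, hz⟩, ⟨x, hx⟩), rfl⟩
  haveI := hU.nil
  have hXpos : 0 < Nat.card X := Nat.card_pos
  have hgrow : ∀ H : Subgroup G, H ≤ U → Nat.card H < Nat.card U →
      ∃ g ∈ U, g ∉ H ∧ ∀ w ∈ H, g * w * g⁻¹ ∈ H := by
    intro H hH hlt
    have hne : H.subgroupOf U < ⊤ := lt_top_iff_ne_top.2 fun h => by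
      have := Subgroup.card_le_of_le (Subgroup.subgroupOf_eq_top.1 h)
      omega
    obtain ⟨g, hg, hgH⟩ := SetLike.exists_of_lt (Group.normalizerCondition_of_isNilpotent _ hne)
    exact ⟨g, g.2, hgH, fun w hw =>
      (Subgroup.mem_normalizer_iff.1 hg ⟨w, hH hw⟩).1 hw⟩
  obtain ⟨g₁, hg₁U, hg₁V, hg₁n⟩ := hgrow V hVU (by
    rw [hcardU]
    refine hcardV.trans_lt (Nat.mul_lt_mul_of_pos_right ?_ hXpos)
    calc Nat.card A = Nat.card A ^ 1 := (pow_one _).symm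
      _ < _ := Nat.pow_lt_pow_right (by omega) (by norm_num))
  -- `X` is elementary abelian
  have hX2 : ∀ x ∈ X, x * x = 1 := by
    intro x hx
    by_contra hxx
    obtain ⟨z, hz, y, hy, hzy⟩ := hg₁n x (hXV x hx)
    obtain ⟨m, hm, hm2⟩ := hinvol (x * x) (hXU _ (mul_mem hx hx)) hxx
    have hsq : g₁ * (x * x) * g₁⁻¹ = y * y := by
      rw [show g₁ * (x * x) * g₁⁻¹ = (g₁ * x * g₁⁻¹) * (g₁ * x * g₁⁻¹) by group, hzy,
        show z * y * (z * y) = z * (y * z) * y by group, ← hAc z hz y (hXU y hy),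
        show z * (z * y) * y = z * z * (y * y) by group, hA2 z hz, one_mul]
    refine hg₁V (hTI g₁ hg₁U ((x * x) ^ m) (pow_mem (mul_mem hx hx) m) hm hm2 ?_)
    rw [← conj_pow, hsq]
    exact pow_mem (mul_mem hy hy) m
  have hXcomm : ∀ x ∈ X, ∀ y ∈ X, x * y = y * x := fun x hx y hy => by
    calc x * y = (x * y) * ((y * x) * (y * x)) := by rw [hX2 _ (mul_mem hy hx), mul_one]
      _ = x * (y * y) * x * (y * x) := by group
      _ = y * x := by rw [hX2 y hy, mul_one, hX2 x hx, one_mul]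
  have hVcomm : ∀ w ∈ V, ∀ x ∈ X, w * x = x * w := by
    rintro _ ⟨z, hz, y, hy, rfl⟩ x hx
    rw [mul_assoc, hXcomm y hy x hx, ← mul_assoc, hAc z hz x (hXU x hx), mul_assoc]
  have hV2 : ∀ w ∈ V, w * w = 1 := by
    rintro _ ⟨z, hz, y, hy, rfl⟩
    rw [show z * y * (z * y) = z * (y * z) * y by group, ← hAc z hz y (hXU y hy),
      show z * (z * y) * y = z * z * (y * y) by group, hA2 z hz, hX2 y hy, one_mul]
  -- decomposition in `V` is unique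
  have huniq : ∀ z ∈ A, ∀ z' ∈ A, ∀ x ∈ X, ∀ x' ∈ X, z * x = z' * x' → z = z' ∧ x = x' := by
    intro z hz z' hz' x hx x' hx' h
    have h1 : z'⁻¹ * z = x' * x⁻¹ := by
      calc z'⁻¹ * z = z'⁻¹ * (z * x) * x⁻¹ := by group
        _ = z'⁻¹ * (z' * x') * x⁻¹ := by rw [h]
        _ = _ := by group
    have h2 := hAX _ (mul_mem (inv_mem hz') hz) (h1 ▸ mul_mem hx' (inv_mem hx))
    have h3 : z = z' := (inv_mul_eq_one.1 h2).symm
    exact ⟨h3, mul_left_cancel (h3 ▸ h)⟩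
  -- conjugation by elements of `U` fixes `A` pointwise
  have hAconj : ∀ g ∈ U, ∀ z ∈ A, g * z * g⁻¹ = z := fun g hg z hz => by
    rw [← hAc z hz g hg, mul_inv_cancel_right]
  -- the group `N`
  let N : Subgroup G := U ⊓ Subgroup.normalizer (V : Set G)
  have hNmk : ∀ g ∈ U, ∀ x ∈ X, x ≠ 1 → g * x * g⁻¹ ∈ V → g ∈ N := by
    intro g hg x hx hx1 hgx
    refine ⟨hg, ?_⟩
    have h1 : ∀ w ∈ V, g⁻¹ * w * g ∈ V := fun w hw => by
      refine hC x hx hx1 (hX2 x hx) _ (mul_mem (mul_mem (inv_mem hg) (hVU w hw)) hg) ?_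
      obtain ⟨z, hz, y, hy, hzy⟩ := hgx
      have hwc : w * (g * x * g⁻¹) = g * x * g⁻¹ * w := by
        rw [hzy, show w * (z * y) = w * z * y by group, ← hAc z hz w (hVU w hw), mul_assoc,
          hVcomm w hw y hy, mul_assoc]
      show g⁻¹ * w * g * x = x * (g⁻¹ * w * g)
      calc g⁻¹ * w * g * x = g⁻¹ * (w * (g * x * g⁻¹)) * g := by group
        _ = g⁻¹ * (g * x * g⁻¹ * w) * g := by rw [hwc]
        _ = _ := by group
    let f : V → V := fun w => ⟨g⁻¹ * w * g, h1 w w.2⟩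
    have hf : Function.Injective f := fun w w' h => by
      have := congrArg Subtype.val h
      exact Subtype.ext (mul_left_cancel (mul_right_cancel this))
    show g ∈ Subgroup.normalizer (V : Set G)
    rw [Subgroup.mem_normalizer_iff]
    intro w
    constructor
    · intro hw
      obtain ⟨w', hw'⟩ := Finite.surjective_of_injective hf ⟨w, hw⟩
      have : g⁻¹ * (w' : G) * g = w := congrArg Subtype.val hw'
      rw [← this, show g * (g⁻¹ * (w' : G) * g) * g⁻¹ = (w' : G) by group]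
      exact w'.2
    · intro hw
      have := h1 _ hw
      rwa [show g⁻¹ * (g * w * g⁻¹) * g = w by group] at this
  have hNconj : ∀ n ∈ N, ∀ w ∈ V, n * w * n⁻¹ ∈ V := fun n hn w hw =>
    (Subgroup.mem_normalizer_iff.1 hn.2 w).1 hw
  have hVN : ∀ w ∈ V, w ∈ N := fun w hw => ⟨hVU w hw, Subgroup.le_normalizer hw⟩
  have hg₁N : g₁ ∈ N := hNmk g₁ hg₁U i₀ hi₀X hi₀1 (hg₁n _ (hXV _ hi₀X))
  -- the torus
  let IsK : G → Prop := fun k => k • a = a ∧ k • b = b ∧ ∀ x ∈ X, Commute x k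
  have hKtrans : ∀ y ∈ A, y ≠ 1 → ∀ y' ∈ A, y' ≠ 1 → ∃ k, IsK k ∧ k * y * k⁻¹ = y' := by
    intro y hy hy1 y' hy' hy1'
    obtain ⟨k, hka, hkb, hk, hkc⟩ := hU.exists_move hv hb.symm hy hy1 hy' hy1'
    exact ⟨k, ⟨hka, hkb, fun x hx => hkc x
      (fun z hz => hU.commute_Aat hb.symm hU.mem_line_left hx hz)
      (fun z hz => hU.commute_Aat hb.symm hU.mem_line_right hx hz)⟩, hk⟩
  have hKU : ∀ k, IsK k → ∀ u ∈ U, k * u * k⁻¹ ∈ U := fun k hk u hu => hU.conj_mem k hk.1 u hu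
  have hKinv : ∀ k, IsK k → IsK k⁻¹ := fun k hk =>
    ⟨inv_smul_eq_iff.2 hk.1.symm, inv_smul_eq_iff.2 hk.2.1.symm, fun x hx => (hk.2.2 x hx).inv_right⟩
  have hKA : ∀ k, IsK k → ∀ z ∈ A, k * z * k⁻¹ ∈ A := fun k hk z hz => by
    have := Aat_conj hz k
    rwa [hk.1] at this
  have hKX : ∀ k, IsK k → ∀ x ∈ X, k * x * k⁻¹ = x := fun k hk x hx => by
    rw [← (hk.2.2 x hx).eq, mul_inv_cancel_right]
  have hKdist : ∀ k : G, ∀ p r : G, k * (p * r) * k⁻¹ = (k * p * k⁻¹) * (k * r * k⁻¹) :=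
    fun k p r => by group
  have hKV : ∀ k, IsK k → ∀ w ∈ V, k * w * k⁻¹ ∈ V := by
    rintro k hk _ ⟨z, hz, x, hx, rfl⟩
    exact ⟨_, hKA k hk z hz, x, hx, by rw [hKdist, hKX k hk x hx]⟩
  -- elements of `N` act trivially on `V` modulo `A`
  have hNdec : ∀ n ∈ N, ∀ x ∈ X, ∃ z ∈ A, ∃ y ∈ X, n * x * n⁻¹ = z * y :=
    fun n hn x hx => hNconj n hn x (hXV x hx)
  have hzne : ∀ n ∈ N, n ∉ V → ∀ x ∈ X, x ≠ 1 → ∀ z ∈ A, ∀ y ∈ X,
      n * x * n⁻¹ = z * y → z ≠ 1 := by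
    intro n hn hnV x hx hx1 z hz y hy h hz1
    rw [hz1, one_mul] at h
    exact hnV (hTI n hn.1 x hx hx1 (hX2 x hx) (h ▸ hy))
  have hsurj : ∀ n ∈ N, ∀ y ∈ X, ∃ x ∈ X, ∃ z ∈ A, n * x * n⁻¹ = z * y := by
    intro n hn y hy
    choose! zf hzf yf hyf hf using hNdec n hn
    let F : X → X := fun x => ⟨yf x, hyf x x.2⟩
    have hF : Function.Injective F := fun x x' h => by
      have h1 : yf x = yf x' := congrArg Subtype.val h
      have hzA : (n * x * n⁻¹) * (n * x' * n⁻¹)⁻¹ ∈ A := by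
        rw [hf x x.2, hf x' x'.2, h1,
          show zf x * yf x' * (zf x' * yf x')⁻¹ = zf x * (zf x')⁻¹ by group]
        exact mul_mem (hzf x x.2) (inv_mem (hzf x' x'.2))
      have h2 : n⁻¹ * ((n * x * n⁻¹) * (n * x' * n⁻¹)⁻¹) * n⁻¹⁻¹ = (x : G) * (x' : G)⁻¹ := by group
      rw [hAconj n⁻¹ (inv_mem hn.1) _ hzA] at h2
      have h3 := hAX _ (h2 ▸ hzA) (mul_mem x.2 (inv_mem x'.2))
      exact Subtype.ext (mul_inv_eq_one.1 h3)
    obtain ⟨x, hx⟩ := Finite.surjective_of_injective hF ⟨y, hy⟩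
    exact ⟨x, x.2, zf x, hzf x x.2, by rw [hf x x.2, show yf (x : G) = y from congrArg Subtype.val hx]⟩
  have hsame : ∀ n ∈ N, n ∉ V → ∀ n' ∈ N, n' ∉ V → ∀ x ∈ X, ∀ z ∈ A, ∀ y ∈ X,
      n * x * n⁻¹ = z * y → ∃ z' ∈ A, n' * x * n'⁻¹ = z' * y := by
    intro n hn hnV n' hn' hnV' x hx z hz y hy h
    obtain ⟨z₁, hz₁, y₁, hy₁, h₁⟩ := hNdec n hn i₀ hi₀X
    obtain ⟨x', hx', z₂, hz₂, h₂⟩ := hsurj n' hn' y₁ hy₁
    have hy₁1 : y₁ ≠ 1 := fun e => hi₀1 (hAX _ (by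
      have h' : n * i₀ * n⁻¹ = z₁ := by rw [h₁, e, mul_one]
      have h2 := hAconj n⁻¹ (inv_mem hn.1) _ hz₁
      rw [← h', show n⁻¹ * (n * i₀ * n⁻¹) * n⁻¹⁻¹ = i₀ by group, h'] at h2
      rw [h2]; exact hz₁) hi₀X)
    have hx'1 : x' ≠ 1 := fun e => hy₁1 (by
      rw [e, mul_one, mul_inv_cancel] at h₂
      exact (huniq z₂ hz₂ 1 (one_mem _) y₁ hy₁ 1 (one_mem _) (by rw [← h₂, one_mul])).2)
    obtain ⟨k, hk, hkz⟩ := hKtrans z₁ hz₁ (hzne n hn hnV i₀ hi₀X hi₀1 z₁ hz₁ y₁ hy₁ h₁) z₂ hz₂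
      (hzne n' hn' hnV' x' hx' hx'1 z₂ hz₂ y₁ hy₁ h₂)
    have hk2 : k * n * k⁻¹ * i₀ * (k * n * k⁻¹)⁻¹ = z₂ * y₁ := by
      calc k * n * k⁻¹ * i₀ * (k * n * k⁻¹)⁻¹
          = k * (n * (k⁻¹ * i₀ * k⁻¹⁻¹) * n⁻¹) * k⁻¹ := by group
        _ = k * (z₁ * y₁) * k⁻¹ := by rw [hKX k⁻¹ (hKinv k hk) _ hi₀X, h₁]
        _ = _ := by rw [hKdist, hkz, hKX k hk y₁ hy₁]
    have hnk : k * n * k⁻¹ ∈ U := hKU k hk n hn.1
    have hv' : n'⁻¹ * (k * n * k⁻¹) ∈ V := by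
      refine hTI _ (mul_mem (inv_mem hn'.1) hnk) i₀ hi₀X hi₀1 hi₀2 ?_
      rw [show n'⁻¹ * (k * n * k⁻¹) * i₀ * (n'⁻¹ * (k * n * k⁻¹))⁻¹ =
        n'⁻¹ * (k * n * k⁻¹ * i₀ * (k * n * k⁻¹)⁻¹) * n' by group, hk2, ← h₂,
        show n'⁻¹ * (n' * x' * n'⁻¹) * n' = x' by group]
      exact hx'
    refine ⟨k * z * k⁻¹, hKA k hk z hz, ?_⟩
    obtain ⟨w, hw, hwe⟩ : ∃ w, w ∈ V ∧ n' = k * n * k⁻¹ * w :=
      ⟨(n'⁻¹ * (k * n * k⁻¹))⁻¹, inv_mem hv', by group⟩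
    calc n' * x * n'⁻¹ = k * n * k⁻¹ * (w * x * w⁻¹) * (k * n⁻¹ * k⁻¹) := by rw [hwe]; group
      _ = k * (n * (k⁻¹ * x * k⁻¹⁻¹) * n⁻¹) * k⁻¹ := by
          rw [hVcomm w hw x hx, mul_inv_cancel_right]; group
      _ = k * (z * y) * k⁻¹ := by rw [hKX k⁻¹ (hKinv k hk) x hx, h]
      _ = _ := by rw [hKdist, hKX k hk y hy]
  have htriv : ∀ n ∈ N, ∀ x ∈ X, x * n * x * n⁻¹ ∈ A := by
    intro n hn x hx
    by_cases hnV : n ∈ V
    · rw [show x * n * x * n⁻¹ = x * (n * x) * n⁻¹ by group, hVcomm n hnV x hx,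
        show x * (x * n) * n⁻¹ = x * x by group, hX2 x hx]
      exact one_mem A
    obtain ⟨z, hz, y, hy, h⟩ := hNdec n hn x hx
    suffices hyx : y = x by
      rw [show x * n * x * n⁻¹ = x * (n * x * n⁻¹) by group, h, hyx,
        show x * (z * x) = x * z * x by group, ← hAc z hz x (hXU x hx), mul_assoc, hX2 x hx, mul_one]
      exact hz
    -- find a second element with product outside `V`
    obtain ⟨n₂, hn₂, hn₂V, hprod⟩ : ∃ n₂ ∈ N, n₂ ∉ V ∧ n * n₂ ∉ V := by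
      by_cases hnn : n * n ∈ V
      · obtain ⟨z₁, hz₁, y₁, hy₁, h₁⟩ := hNdec n hn i₀ hi₀X
        have hz₁1 := hzne n hn hnV i₀ hi₀X hi₀1 z₁ hz₁ y₁ hy₁ h₁
        obtain ⟨z₂, hz₂, hz₂1, hz₂ne⟩ := hU.exists_third hv hz₁
        obtain ⟨k, hk, hkz⟩ := hKtrans z₁ hz₁ hz₁1 z₂ hz₂ hz₂1
        refine ⟨k * n * k⁻¹, ⟨hKU k hk n hn.1, ?_⟩, ?_, fun hp => ?_⟩
        · show k * n * k⁻¹ ∈ Subgroup.normalizer (V : Set G)
          rw [Subgroup.mem_normalizer_iff]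
          refine fun w => ⟨fun hw => ?_, fun hw => ?_⟩
          · rw [show k * n * k⁻¹ * w * (k * n * k⁻¹)⁻¹ = k * (n * (k⁻¹ * w * k⁻¹⁻¹) * n⁻¹) * k⁻¹ by
              group]
            exact hKV k hk _ (hNconj n hn _ (hKV k⁻¹ (hKinv k hk) w hw))
          · rw [show k * n * k⁻¹ * w * (k * n * k⁻¹)⁻¹ = k * (n * (k⁻¹ * w * k⁻¹⁻¹) * n⁻¹) * k⁻¹ by
              group] at hw
            have h3 := hKV k⁻¹ (hKinv k hk) _ hw
            rw [show k⁻¹ * (k * (n * (k⁻¹ * w * k⁻¹⁻¹) * n⁻¹) * k⁻¹) * k⁻¹⁻¹ =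
              n * (k⁻¹ * w * k⁻¹⁻¹) * n⁻¹ by group] at h3
            have h4 := hKV k hk _ ((Subgroup.mem_normalizer_iff.1 hn.2 _).2 h3)
            rwa [show k * (k⁻¹ * w * k⁻¹⁻¹) * k⁻¹ = w by group] at h4
        · intro h5
          have := hKV k⁻¹ (hKinv k hk) _ h5
          rw [show k⁻¹ * (k * n * k⁻¹) * k⁻¹⁻¹ = n by group] at this
          exact hnV this
        · -- otherwise `k n k⁻¹` and `n` conjugate `i₀` alike
          have hm : n⁻¹ * (k * n * k⁻¹) ∈ V := by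
            rw [show n⁻¹ * (k * n * k⁻¹) = (n * n)⁻¹ * (n * (k * n * k⁻¹)) by group]
            exact mul_mem (inv_mem hnn) hp
          have e : (k * n * k⁻¹) * i₀ * (k * n * k⁻¹)⁻¹ = n * i₀ * n⁻¹ := by
            calc (k * n * k⁻¹) * i₀ * (k * n * k⁻¹)⁻¹
                = n * ((n⁻¹ * (k * n * k⁻¹)) * i₀ * (n⁻¹ * (k * n * k⁻¹))⁻¹) * n⁻¹ := by group
              _ = _ := by rw [hVcomm _ hm i₀ hi₀X, mul_inv_cancel_right]
          rw [show k * n * k⁻¹ * i₀ * (k * n * k⁻¹)⁻¹ =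
              k * (n * (k⁻¹ * i₀ * k⁻¹⁻¹) * n⁻¹) * k⁻¹ by group, hKX k⁻¹ (hKinv k hk) _ hi₀X, h₁,
            hKdist, hkz, hKX k hk y₁ hy₁] at e
          exact hz₂ne (huniq z₂ hz₂ z₁ hz₁ y₁ hy₁ y₁ hy₁ e).1
      · exact ⟨n, hn, hnV, hnn⟩
    obtain ⟨z₂, hz₂, h₂⟩ := hsame n hn hnV n₂ hn₂ hn₂V x hx z hz y hy h
    obtain ⟨z₃, hz₃, h₃⟩ := hsame n hn hnV _ (mul_mem hn hn₂) hprod x hx z hz y hy h
    obtain ⟨z₄, hz₄, y₄, hy₄, h₄⟩ := hNdec n hn y hy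
    have e : z₃ * y = (z₂ * z₄) * y₄ := by
      rw [← h₃, show n * n₂ * x * (n * n₂)⁻¹ = n * (n₂ * x * n₂⁻¹) * n⁻¹ by group, h₂,
        show n * (z₂ * y) * n⁻¹ = (n * z₂ * n⁻¹) * (n * y * n⁻¹) by group,
        hAconj n hn.1 z₂ hz₂, h₄, mul_assoc]
    obtain ⟨-, rfl⟩ := huniq z₃ hz₃ _ (mul_mem hz₂ hz₄) y hy y₄ hy₄ e
    -- `x` and `y` go to the same class
    have hmem : n * (x * y⁻¹) * n⁻¹ ∈ A := by
      rw [show n * (x * y⁻¹) * n⁻¹ = (n * x * n⁻¹) * (n * y * n⁻¹)⁻¹ by group, h, h₄,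
        show z * y * (z₄ * y)⁻¹ = z * z₄⁻¹ by group]
      exact mul_mem hz (inv_mem hz₄)
    have h5 := hAconj n⁻¹ (inv_mem hn.1) _ hmem
    rw [show n⁻¹ * (n * (x * y⁻¹) * n⁻¹) * n⁻¹⁻¹ = x * y⁻¹ by group] at h5
    rw [← h5] at hmem
    exact (mul_inv_eq_one.1 (hAX _ hmem (mul_mem hx (inv_mem hy)))).symm
  -- the commutator with `i₀`
  have hzmul : ∀ n ∈ N, ∀ m ∈ N, i₀ * (n * m) * i₀ * (n * m)⁻¹ =
      (i₀ * n * i₀ * n⁻¹) * (i₀ * m * i₀ * m⁻¹) := by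
    intro n hn m hm
    calc i₀ * (n * m) * i₀ * (n * m)⁻¹
        = (i₀ * n * i₀ * n⁻¹) * (n * (i₀⁻¹ * m * i₀ * m⁻¹) * n⁻¹) := by group
      _ = (i₀ * n * i₀ * n⁻¹) * (n * (i₀ * m * i₀ * m⁻¹) * n⁻¹) := by
          rw [inv_eq_of_mul_eq_one_right hi₀2]
      _ = _ := by rw [hAconj n hn.1 _ (htriv m hm i₀ hi₀X)]
  let ψ : N →* A :=
    { toFun := fun n => ⟨i₀ * (n : G) * i₀ * (n : G)⁻¹, htriv n n.2 i₀ hi₀X⟩
      map_one' := Subtype.ext (by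
        show i₀ * 1 * i₀ * (1 : G)⁻¹ = 1
        rw [mul_one, inv_one, mul_one, hi₀2])
      map_mul' := fun n m => Subtype.ext (hzmul n n.2 m m.2) }
  have hψV : ∀ n ∈ N, i₀ * n * i₀ * n⁻¹ = 1 → n ∈ V := by
    intro n hn h
    refine hC i₀ hi₀X hi₀1 hi₀2 n hn.1 ?_
    show n * i₀ = i₀ * n
    calc n * i₀ = i₀⁻¹ * (i₀ * n * i₀ * n⁻¹) * n := by group
      _ = i₀ * n := by rw [h, mul_one, inv_eq_of_mul_eq_one_right hi₀2]
  have hψ0 : ∀ w ∈ V, i₀ * w * i₀ * w⁻¹ = 1 := fun w hw => by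
    rw [show i₀ * w * i₀ * w⁻¹ = i₀ * (w * i₀) * w⁻¹ by group, hVcomm w hw i₀ hi₀X,
      show i₀ * (i₀ * w) * w⁻¹ = i₀ * i₀ by group, hi₀2]
  have hcardN : Nat.card N < Nat.card U := by
    have hker : Nat.card ψ.ker ≤ Nat.card V := Nat.card_le_card_of_injective
      (fun n => (⟨(n.1 : G), hψV _ n.1.2 (congrArg Subtype.val n.2)⟩ : V))
      (fun n m h => Subtype.ext (Subtype.ext (congrArg (fun w : V => (w : G)) h)))
    have h1 := Subgroup.card_eq_card_quotient_mul_card_subgroup ψ.ker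
    rw [Nat.card_congr (QuotientGroup.quotientKerEquivRange ψ).toEquiv] at h1
    have h2 : Nat.card ψ.range ≤ Nat.card A :=
      Nat.card_le_card_of_injective _ Subtype.val_injective
    rw [h1, hcardU]
    calc Nat.card ψ.range * Nat.card ψ.ker ≤ Nat.card A * (Nat.card A * Nat.card X) :=
          Nat.mul_le_mul h2 (hker.trans hcardV)
      _ = Nat.card A ^ 2 * Nat.card X := by ring
      _ < _ := Nat.mul_lt_mul_of_pos_right (Nat.pow_lt_pow_right (by omega) (by norm_num)) hXpos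
  have hnn : ∀ n ∈ N, n * n ∈ A := by
    intro n hn
    have h1 : n * n ∈ V := hψV _ (mul_mem hn hn) (by
      rw [hzmul n hn n hn]; exact hA2 _ (htriv n hn i₀ hi₀X))
    obtain ⟨z, hz, x, hx, h⟩ := h1
    rw [h]
    rcases eq_or_ne x 1 with rfl | hx1
    · rw [mul_one]; exact hz
    have hc : n * x = x * n := by
      have h2 : x = z⁻¹ * (n * n) := by rw [h]; group
      calc n * x = n * z⁻¹ * (n * n) := by rw [h2]; group
        _ = z⁻¹ * n * (n * n) := by rw [hAc _ (inv_mem hz) n hn.1]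
        _ = x * n := by rw [h2]; group
    rw [← h, hV2 n (hC x hx hx1 (hX2 x hx) n hn.1 hc)]
    exact one_mem A
  have hNcomm : ∀ n ∈ N, ∀ m ∈ N, n * m * n⁻¹ * m⁻¹ ∈ A := fun n hn m hm => by
    rw [show n * m * n⁻¹ * m⁻¹ = n * n * ((n⁻¹ * m) * (n⁻¹ * m)) * (m⁻¹ * m⁻¹) by group]
    exact mul_mem (mul_mem (hnn n hn) (hnn _ (mul_mem (inv_mem hn) hm))) (hnn _ (inv_mem hm))
  -- the preimage `W` of the centre of `U / A`
  let W : Subgroup G :=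
    { carrier := {w | w ∈ U ∧ ∀ g ∈ U, g * w * g⁻¹ * w⁻¹ ∈ A}
      one_mem' := ⟨one_mem _, fun g _ => by
        rw [show g * 1 * g⁻¹ * (1 : G)⁻¹ = 1 by group]; exact one_mem A⟩
      mul_mem' := by
        rintro w w' ⟨hw, hwc⟩ ⟨hw', hwc'⟩
        refine ⟨mul_mem hw hw', fun g hg => ?_⟩
        have e : g * (w * w') * g⁻¹ * (w * w')⁻¹ =
            (g * w * g⁻¹) * (g * w' * g⁻¹ * w'⁻¹) * w⁻¹ := by group
        rw [e, ← hAc _ (hwc' g hg) _ (mul_mem (mul_mem hg hw) (inv_mem hg)),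
          show g * w' * g⁻¹ * w'⁻¹ * (g * w * g⁻¹) * w⁻¹ =
            (g * w' * g⁻¹ * w'⁻¹) * (g * w * g⁻¹ * w⁻¹) by group]
        exact mul_mem (hwc' g hg) (hwc g hg)
      inv_mem' := by
        rintro w ⟨hw, hwc⟩
        refine ⟨inv_mem hw, fun g hg => ?_⟩
        rw [show g * w⁻¹ * g⁻¹ * w⁻¹⁻¹ = w⁻¹ * (g * w * g⁻¹ * w⁻¹)⁻¹ * w⁻¹⁻¹ by group,
          hAconj w⁻¹ (inv_mem hw) _ (inv_mem (hwc g hg))]
        exact inv_mem (hwc g hg) }
  have hAW : ∀ z ∈ A, z ∈ W := fun z hz => ⟨hAU z hz, fun g hg => by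
    rw [hAconj g hg z hz, mul_inv_cancel]; exact one_mem A⟩
  have hWnorm : ∀ g ∈ U, ∀ w ∈ W, g * w * g⁻¹ ∈ W := fun g hg w hw => by
    rw [show g * w * g⁻¹ = g * w * g⁻¹ * w⁻¹ * w by group]
    exact mul_mem (hAW _ (hw.2 g hg)) hw
  have hWN : ∀ w ∈ W, w ∈ N := by
    intro w hw
    refine hNmk w hw.1 i₀ hi₀X hi₀1 ?_
    rw [show w * i₀ * w⁻¹ = (i₀ * w * i₀⁻¹ * w⁻¹)⁻¹ * i₀ by group]
    exact mul_mem (hAV _ (inv_mem (hw.2 i₀ (hXU _ hi₀X)))) (hXV _ hi₀X)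
  have hWV : ∀ w ∈ W, w ∈ V → w ∈ A := by
    rintro _ hw ⟨z, hz, x, hx, rfl⟩
    rcases eq_or_ne x 1 with rfl | hx1
    · rw [mul_one]; exact hz
    exfalso
    have hxW : x ∈ W := by
      have := mul_mem (hAW _ (inv_mem hz)) hw
      rwa [inv_mul_cancel_left] at this
    have : U ≤ N := fun g hg => hNmk g hg x hx hx1 (by
      rw [show g * x * g⁻¹ = g * x * g⁻¹ * x⁻¹ * x by group]
      exact mul_mem (hAV _ (hxW.2 g hg)) (hXV x hx))
    have := Subgroup.card_le_of_le this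
    omega
  obtain ⟨w₀, hw₀, hw₀A⟩ : ∃ w ∈ W, w ∉ A := by
    haveI : (A.subgroupOf U).Normal := ⟨fun z hz g => by
      rw [Subgroup.mem_subgroupOf] at hz ⊢
      show (g : G) * z * (g : G)⁻¹ ∈ A
      rw [hAconj g g.2 _ hz]; exact hz⟩
    haveI : Nontrivial (U ⧸ A.subgroupOf U) := by
      rw [QuotientGroup.nontrivial_iff]
      intro h
      have := Subgroup.card_le_of_le (Subgroup.subgroupOf_eq_top.1 h)
      have h3 : Nat.card A ^ 1 < Nat.card A ^ 3 := Nat.pow_lt_pow_right (by omega) (by norm_num)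
      rw [pow_one] at h3
      have : Nat.card A ^ 3 ≤ Nat.card A ^ 3 * Nat.card X := Nat.le_mul_of_pos_right _ hXpos
      omega
    obtain ⟨⟨c, hc⟩, hc1⟩ := Subgroup.ne_bot_iff_exists_ne_one.1
      (Group.IsNilpotent.center_ne_bot (G := U ⧸ A.subgroupOf U))
    obtain ⟨w, rfl⟩ := QuotientGroup.mk'_surjective _ c
    refine ⟨w, ⟨w.2, fun g hg => ?_⟩, fun h => hc1 (Subtype.ext ((QuotientGroup.eq_one_iff w).2 h))⟩
    have h1 : QuotientGroup.mk' (A.subgroupOf U) (⟨g, hg⟩ * w * ⟨g, hg⟩⁻¹ * w⁻¹) = 1 := by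
      rw [map_mul, map_mul, map_mul, map_inv, map_inv,
        Subgroup.mem_center_iff.1 hc (QuotientGroup.mk' _ ⟨g, hg⟩)]
      group
    have h2 : (⟨g, hg⟩ : U) * w * (⟨g, hg⟩ : U)⁻¹ * w⁻¹ ∈ A.subgroupOf U :=
      (QuotientGroup.eq_one_iff _).1 h1
    exact h2
  have hw₀z : i₀ * w₀ * i₀ * w₀⁻¹ ≠ 1 := fun h => hw₀A (hWV _ hw₀ (hψV _ (hWN _ hw₀) h))
  have hKW : ∀ k, IsK k → ∀ w ∈ W, k * w * k⁻¹ ∈ W := fun k hk w hw =>
    ⟨hKU k hk w hw.1, fun g hg => by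
      rw [show g * (k * w * k⁻¹) * g⁻¹ * (k * w * k⁻¹)⁻¹ =
        k * ((k⁻¹ * g * k⁻¹⁻¹) * w * (k⁻¹ * g * k⁻¹⁻¹)⁻¹ * w⁻¹) * k⁻¹ by group]
      exact hKA k hk _ (hw.2 _ (hKU k⁻¹ (hKinv k hk) g hg))⟩
  have hψK : ∀ k, IsK k → ∀ n : G, i₀ * (k * n * k⁻¹) * i₀ * (k * n * k⁻¹)⁻¹ =
      k * (i₀ * n * i₀ * n⁻¹) * k⁻¹ := fun k hk n => by
    calc i₀ * (k * n * k⁻¹) * i₀ * (k * n * k⁻¹)⁻¹
        = (k * i₀ * k⁻¹) * (k * n * k⁻¹) * (k * i₀ * k⁻¹) * (k * n * k⁻¹)⁻¹ := by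
          rw [hKX k hk i₀ hi₀X]
      _ = _ := by group
  have hψeq : ∀ n ∈ N, ∀ m ∈ N, i₀ * n * i₀ * n⁻¹ = i₀ * m * i₀ * m⁻¹ → n⁻¹ * m ∈ V := by
    intro n hn m hm h
    refine hψV _ (mul_mem (inv_mem hn) hm) ?_
    rw [hzmul _ (inv_mem hn) m hm, ← h, ← hzmul _ (inv_mem hn) n hn, inv_mul_cancel,
      mul_one, inv_one, mul_one, hi₀2]
  -- `W` covers `N / V`
  have hWcover : ∀ n ∈ N, ∃ w ∈ W, ∃ x ∈ X, n = w * x := by
    intro n hn
    obtain ⟨w, hw, hwn⟩ : ∃ w ∈ W, w⁻¹ * n ∈ V := by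
      by_cases hn0 : i₀ * n * i₀ * n⁻¹ = 1
      · exact ⟨1, one_mem W, by rw [inv_one, one_mul]; exact hψV n hn hn0⟩
      obtain ⟨k, hk, hkz⟩ := hKtrans _ (htriv _ (hWN _ hw₀) i₀ hi₀X) hw₀z _ (htriv n hn i₀ hi₀X) hn0
      exact ⟨k * w₀ * k⁻¹, hKW k hk _ hw₀, hψeq _ (hWN _ (hKW k hk _ hw₀)) n hn
        (by rw [hψK k hk, hkz])⟩
    obtain ⟨z, hz, x, hx, h⟩ := hwn
    exact ⟨w * z, mul_mem hw (hAW z hz), x, hx, by rw [mul_assoc, ← h, mul_inv_cancel_left]⟩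
  -- every involution of `X` inverts `W`
  have hinvW : ∀ x ∈ X, x ≠ 1 → ∀ w ∈ W, x * w * x = w⁻¹ := by
    intro x hx hx1
    obtain ⟨u₀, hu₀W, hu₀A, hu₀i⟩ : ∃ u ∈ W, u ∉ A ∧ x * u * x = u⁻¹ := by
      obtain ⟨g, hg, hgN, hgn⟩ := hgrow N (fun n hn => hn.1) hcardN
      have hxN : x ∈ N := hVN _ (hXV x hx)
      have hxi : x⁻¹ = x := inv_eq_of_mul_eq_one_right (hX2 x hx)
      have hnorm : ∀ k, IsK k → ∀ n ∈ N, k * n * k⁻¹ ∈ N := fun k hk n hn => by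
        obtain ⟨w, hw, y, hy, rfl⟩ := hWcover n hn
        rw [hKdist, hKX k hk y hy]
        exact mul_mem (hWN _ (hKW k hk w hw)) (hVN _ (hXV y hy))
      have hug : x * g * x * g⁻¹ ∈ N := by
        rw [show x * g * x * g⁻¹ = x * (g * x * g⁻¹) by group]
        exact mul_mem hxN (hgn x hxN)
      have hugV : x * g * x * g⁻¹ ∉ V := fun h => hgN (hNmk g hg x hx hx1 (by
        rw [show g * x * g⁻¹ = x⁻¹ * (x * g * x * g⁻¹) by group]
        exact mul_mem (inv_mem (hXV x hx)) h))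
      -- `h = k g k⁻¹ g⁻¹` acts trivially on `N / W`
      have hact : ∀ k, IsK k → ∀ y ∈ X,
          ∃ w ∈ W, k * g * k⁻¹ * g⁻¹ * y * (k * g * k⁻¹ * g⁻¹)⁻¹ = w * y := by
        intro k hk y hy
        obtain ⟨g', hg', hgg⟩ : ∃ g', g' ∈ N ∧ g * g' * g⁻¹ = y := by
          let f : N → N := fun n => ⟨g * n * g⁻¹, hgn n n.2⟩
          have hf : Function.Injective f := fun n n' h =>
            Subtype.ext (mul_left_cancel (mul_right_cancel (congrArg Subtype.val h)))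
          obtain ⟨n, hn⟩ := Finite.surjective_of_injective hf ⟨y, hVN _ (hXV y hy)⟩
          exact ⟨n, n.2, congrArg Subtype.val hn⟩
        obtain ⟨w, hw, y', hy', rfl⟩ := hWcover g' hg'
        refine ⟨k * (g * ((k⁻¹ * w * k⁻¹⁻¹) * w⁻¹) * g⁻¹) * k⁻¹, hKW k hk _ (hWnorm g hg _
          (mul_mem (hKW k⁻¹ (hKinv k hk) w hw) (inv_mem hw))), ?_⟩
        calc k * g * k⁻¹ * g⁻¹ * y * (k * g * k⁻¹ * g⁻¹)⁻¹
            = k * g * k⁻¹ * g⁻¹ * (g * (w * y') * g⁻¹) * (k * g * k⁻¹ * g⁻¹)⁻¹ := by rw [hgg]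
          _ = k * g * (k⁻¹ * w * k⁻¹⁻¹) * (k⁻¹ * y' * k⁻¹⁻¹) * g⁻¹ * k⁻¹ := by group
          _ = k * (g * ((k⁻¹ * w * k⁻¹⁻¹) * w⁻¹) * g⁻¹) * (g * (w * y') * g⁻¹) * k⁻¹ := by
              rw [hKX k⁻¹ (hKinv k hk) y' hy']; group
          _ = k * (g * ((k⁻¹ * w * k⁻¹⁻¹) * w⁻¹) * g⁻¹) * y * k⁻¹ := by rw [hgg]
          _ = k * (g * ((k⁻¹ * w * k⁻¹⁻¹) * w⁻¹) * g⁻¹) * k⁻¹ * (k * y * k⁻¹) := by group
          _ = _ := by rw [hKX k hk y hy]
      obtain ⟨k, hk, hkN⟩ : ∃ k, IsK k ∧ k * g * k⁻¹ * g⁻¹ ∉ N := by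
        by_contra! hall
        set ug := x * g * x * g⁻¹ with hugdef
        have hz0 : i₀ * ug * i₀ * ug⁻¹ ≠ 1 := fun h => hugV (hψV _ hug h)
        obtain ⟨z', hz', hz'1, hz'ne⟩ := hU.exists_third hv (htriv ug hug i₀ hi₀X)
        obtain ⟨k, hk, hkz⟩ := hKtrans _ (htriv ug hug i₀ hi₀X) hz0 z' hz' hz'1
        set h := k * g * k⁻¹ * g⁻¹ with hhdef
        have hhN := hall k hk
        have e : k * ug * k⁻¹ = (x * h * x * h⁻¹) * (h * ug * h⁻¹ * ug⁻¹) * ug := by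
          calc k * ug * k⁻¹ = (k * x * k⁻¹) * (k * g * k⁻¹) * (k * x * k⁻¹) * (k * g * k⁻¹)⁻¹ := by
                rw [hugdef]; group
            _ = x * (h * g) * x * (h * g)⁻¹ := by rw [hKX k hk x hx, hhdef]; group
            _ = (x * h * x * h⁻¹) * (h * (x⁻¹ * g * x * g⁻¹) * h⁻¹) := by group
            _ = _ := by rw [hxi, ← hugdef]; group
        have hA' : (x * h * x * h⁻¹) * (h * ug * h⁻¹ * ug⁻¹) ∈ A :=
          mul_mem (htriv h hhN x hx) (hNcomm h hhN ug hug)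
        refine hz'ne ?_
        rw [← hkz, ← hψK k hk ug, e, hzmul _ (hVN _ (hAV _ hA')) ug hug, hψ0 _ (hAV _ hA'), one_mul]
      refine ⟨x * (k * g * k⁻¹ * g⁻¹) * x * (k * g * k⁻¹ * g⁻¹)⁻¹, ?_, ?_, ?_⟩
      · set h := k * g * k⁻¹ * g⁻¹ with hhdef
        set ug := x * g * x * g⁻¹ with hugdef
        obtain ⟨w, hw, y, hy, hwy⟩ := hWcover ug hug
        obtain ⟨w₂, hw₂, hwy₂⟩ := hact k hk y hy
        rw [← hhdef] at hwy₂
        have hhU : h ∈ U := mul_mem (hKU k hk g hg) (inv_mem hg)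
        have e : x * h * x * h⁻¹ = (k * ug * k⁻¹) * (h * ug * h⁻¹)⁻¹ := by
          calc x * h * x * h⁻¹ = x * (h * g) * x * (h * g)⁻¹ * (h * (x⁻¹ * g * x * g⁻¹) * h⁻¹)⁻¹ := by
                group
            _ = x * (h * g) * x * (h * g)⁻¹ * (h * ug * h⁻¹)⁻¹ := by rw [hxi, ← hugdef]
            _ = (k * x * k⁻¹) * (k * g * k⁻¹) * (k * x * k⁻¹) * (k * g * k⁻¹)⁻¹ *
                  (h * ug * h⁻¹)⁻¹ := by rw [hKX k hk x hx, hhdef]; group
            _ = _ := by rw [hugdef]; group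
        rw [e, hwy, hKdist, hKX k hk y hy, hKdist h w y, hwy₂,
          show k * w * k⁻¹ * y * (h * w * h⁻¹ * (w₂ * y))⁻¹ =
            k * w * k⁻¹ * w₂⁻¹ * (h * w * h⁻¹)⁻¹ by group]
        exact mul_mem (mul_mem (hKW k hk w hw) (inv_mem hw₂)) (inv_mem (hWnorm h hhU w hw))
      · intro h
        refine hkN (hNmk _ (mul_mem (hKU k hk g hg) (inv_mem hg)) x hx hx1 ?_)
        rw [show k * g * k⁻¹ * g⁻¹ * x * (k * g * k⁻¹ * g⁻¹)⁻¹ =
          x⁻¹ * (x * (k * g * k⁻¹ * g⁻¹) * x * (k * g * k⁻¹ * g⁻¹)⁻¹) by group]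
        exact mul_mem (inv_mem (hXV x hx)) (hAV _ h)
      · generalize k * g * k⁻¹ * g⁻¹ = h
        calc x * (x * h * x * h⁻¹) * x = x * x * (h * x * h⁻¹ * x) := by group
          _ = h * x⁻¹ * h⁻¹ * x⁻¹ := by rw [hX2 x hx, one_mul, hxi]
          _ = _ := by group
    intro w hw
    have hmulA : ∀ w' : G, w' ∈ U → x * w' * x = w'⁻¹ → ∀ z ∈ A,
        x * (w' * z) * x = (w' * z)⁻¹ := by
      intro w' hw' h z hz
      rw [show x * (w' * z) * x = x * w' * (z * x) by group, hAc z hz x (hXU x hx), ← mul_assoc, h,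
        mul_inv_rev, inv_eq_of_mul_eq_one_right (hA2 z hz), hAc z hz _ (inv_mem hw')]
    by_cases hwA : w ∈ A
    · have h := hmulA 1 (one_mem U) (by rw [mul_one, hX2 x hx, inv_one]) w hwA
      rwa [one_mul] at h
    obtain ⟨k, hk, hkz⟩ := hKtrans _ (htriv _ (hWN _ hu₀W) i₀ hi₀X)
      (fun h => hu₀A (hWV _ hu₀W (hψV _ (hWN _ hu₀W) h))) _ (htriv _ (hWN _ hw) i₀ hi₀X)
      (fun h => hwA (hWV _ hw (hψV _ (hWN _ hw) h)))
    have hu1 : x * (k * u₀ * k⁻¹) * x = (k * u₀ * k⁻¹)⁻¹ := by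
      calc x * (k * u₀ * k⁻¹) * x = (k * x * k⁻¹) * (k * u₀ * k⁻¹) * (k * x * k⁻¹) := by
            rw [hKX k hk x hx]
        _ = k * (x * u₀ * x) * k⁻¹ := by group
        _ = _ := by rw [hu₀i]; group
    have hd : (k * u₀ * k⁻¹)⁻¹ * w ∈ A := by
      refine hWV _ (mul_mem (inv_mem (hKW k hk _ hu₀W)) hw) ?_
      exact hψeq _ (hWN _ (hKW k hk _ hu₀W)) w (hWN _ hw) (by rw [hψK k hk, hkz])
    have := hmulA _ (hKU k hk _ hu₀W.1) hu1 _ hd
    rwa [mul_inv_cancel_left] at this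
  -- hence `X` has order two
  have hXi : ∀ x ∈ X, x ≠ 1 → x = i₀ := by
    intro x hx hx1
    by_contra hne
    have hx' : x * i₀ ≠ 1 := fun h => hne
      ((mul_eq_one_iff_eq_inv.1 h).trans (inv_eq_of_mul_eq_one_right hi₀2))
    refine hw₀A (hWV _ hw₀ (hC (x * i₀) (mul_mem hx hi₀X) hx' (hX2 _ (mul_mem hx hi₀X)) w₀ hw₀.1 ?_))
    show w₀ * (x * i₀) = x * i₀ * w₀
    calc w₀ * (x * i₀) = x * (x * w₀ * x) * i₀ := by
          rw [← mul_assoc x, ← mul_assoc x x, hX2 x hx, one_mul, mul_assoc]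
      _ = x * (i₀ * w₀ * i₀) * i₀ := by rw [hinvW x hx hx1 w₀ hw₀, hinvW i₀ hi₀X hi₀1 w₀ hw₀]
      _ = x * (i₀ * w₀) * (i₀ * i₀) := by group
      _ = x * i₀ * w₀ := by rw [hi₀2, mul_one, mul_assoc]
  have hcardX : Nat.card X = 2 := by
    rw [Nat.card_eq_two_iff' (⟨1, one_mem X⟩ : X)]
    exact ⟨⟨i₀, hi₀X⟩, fun h => hi₀1 (congrArg Subtype.val h),
      fun x hx => Subtype.ext (hXi x x.2 fun h => hx (Subtype.ext h))⟩
  have hi₀W : i₀ ∉ W := fun h => hi₀1 (hAX _ (hWV _ h (hXV _ hi₀X)) hi₀X)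
  -- every element `i₀ w` is conjugate to `i₀`
  have hconjW : ∀ w ∈ W, ∃ u ∈ U, u * i₀ * u⁻¹ = i₀ * w := by
    intro w hw
    have hii : (i₀ * w) * (i₀ * w) = 1 := by
      rw [show i₀ * w * (i₀ * w) = i₀ * w * i₀ * w by group, hinvW i₀ hi₀X hi₀1 w hw,
        inv_mul_cancel]
    have hiA : i₀ * w ∉ A := fun h => hi₀W (by
      have := mul_mem (hAW _ h) (inv_mem hw)
      rwa [mul_inv_cancel_right] at this)
    obtain ⟨u, hu, hX'⟩ := hconjX _ (mul_mem (hXU _ hi₀X) hw.1) hii hiA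
    refine ⟨u, hu, ?_⟩
    nth_rewrite 1 [← hXi _ hX' (fun h => hiA (by
      rw [show i₀ * w = u * (u⁻¹ * (i₀ * w) * u) * u⁻¹ by group, h, mul_one, mul_inv_cancel]
      exact one_mem A))]
    group
  -- and conversely
  have hall : ∀ g ∈ U, ∃ w ∈ W, g * i₀ * g⁻¹ = i₀ * w := by
    choose! uf huf hue using hconjW
    have hcardVeq : Nat.card V = Nat.card A * Nat.card X := by
      refine le_antisymm hcardV ?_
      rw [← Nat.card_prod]
      refine Nat.card_le_card_of_injective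
        (fun p => (⟨p.1.1 * p.2.1, p.1, p.1.2, p.2, p.2.2, rfl⟩ : V)) fun p p' h => ?_
      obtain ⟨h1, h2⟩ := huniq _ p.1.2 _ p'.1.2 _ p.2.2 _ p'.2.2 (congrArg Subtype.val h)
      exact Prod.ext (Subtype.ext h1) (Subtype.ext h2)
    let ψW : W →* A := ψ.comp (Subgroup.inclusion (fun w hw => hWN w hw))
    have hWsurj : Function.Surjective ψW := by
      rintro ⟨z, hz⟩
      rcases eq_or_ne z 1 with rfl | hz1
      · exact ⟨1, map_one ψW⟩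
      obtain ⟨k, hk, hkz⟩ := hKtrans _ (htriv _ (hWN _ hw₀) i₀ hi₀X) hw₀z z hz hz1
      exact ⟨⟨k * w₀ * k⁻¹, hKW k hk _ hw₀⟩, Subtype.ext ((hψK k hk w₀).trans hkz)⟩
    have hcardW : Nat.card A * Nat.card A ≤ Nat.card W := by
      rw [Subgroup.card_eq_card_quotient_mul_card_subgroup ψW.ker,
        Nat.card_congr (QuotientGroup.quotientKerEquivOfSurjective ψW hWsurj).toEquiv]
      refine Nat.mul_le_mul_left _ (Nat.card_le_card_of_injective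
        (fun z => (⟨⟨z.1, hAW _ z.2⟩, Subtype.ext (hψ0 _ (hAV _ z.2))⟩ : ψW.ker)) fun z z' h => ?_)
      exact Subtype.ext (congrArg (fun w : ψW.ker => ((w : W) : G)) h)
    let F : W × V → U := fun p => ⟨uf p.1 * p.2, mul_mem (huf _ p.1.2) (hVU _ p.2.2)⟩
    have hFi : ∀ p : W × V, (F p : G) * i₀ * (F p : G)⁻¹ = i₀ * p.1 := fun p => by
      show uf p.1 * p.2 * i₀ * (uf p.1 * p.2)⁻¹ = _
      rw [mul_assoc (uf (p.1 : G)), hVcomm _ p.2.2 i₀ hi₀X, ← hue _ p.1.2]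
      group
    have hFinj : Function.Injective F := fun p p' h => by
      have h1 : p.1 = p'.1 := Subtype.ext (mul_left_cancel (by rw [← hFi p, h, hFi p']))
      have h2 : uf p.1 * (p.2 : G) = uf p'.1 * p'.2 := congrArg Subtype.val h
      rw [h1] at h2
      exact Prod.ext h1 (Subtype.ext (mul_left_cancel h2))
    have hFsurj : Function.Surjective F := by
      refine ((Nat.bijective_iff_injective_and_card F).2 ⟨hFinj, ?_⟩).2
      refine le_antisymm (Nat.card_le_card_of_injective _ hFinj) ?_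
      rw [Nat.card_prod, hcardU, hcardVeq,
        show Nat.card A ^ 3 * Nat.card X = Nat.card A * Nat.card A * (Nat.card A * Nat.card X) by ring]
      exact Nat.mul_le_mul_right _ hcardW
    intro g hg
    obtain ⟨p, hp⟩ := hFsurj ⟨g, hg⟩
    have := hFi p
    rw [hp] at this
    exact ⟨p.1, p.1.2, this⟩
  -- squares lie in `W`
  have hsqW : ∀ g ∈ U, g * g ∈ W := by
    intro g hg
    obtain ⟨w, hw, hgw⟩ := hall g hg
    have hgg : g * g * i₀ * (g * g)⁻¹ ∈ V := by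
      have h1 : g * g * i₀ * (g * g)⁻¹ = i₀ * ((w * (g * w * g⁻¹ * w⁻¹)) * w) := by
        calc g * g * i₀ * (g * g)⁻¹ = g * (g * i₀ * g⁻¹) * g⁻¹ := by group
          _ = (g * i₀ * g⁻¹) * (g * w * g⁻¹) := by conv_lhs => rw [hgw]
                                                   group
          _ = _ := by rw [hgw]; group
      rw [h1, ← hAc _ (hw.2 g hg) w hw.1, mul_assoc (g * w * g⁻¹ * w⁻¹)]
      exact mul_mem (hXV _ hi₀X) (hAV _ (mul_mem (hw.2 g hg) (hnn w (hWN w hw))))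
    obtain ⟨w', hw', y, hy, hwy⟩ := hWcover _ (hNmk _ (mul_mem hg hg) i₀ hi₀X hi₀1 hgg)
    rcases eq_or_ne y 1 with rfl | hy1
    · rw [mul_one] at hwy
      rw [hwy]; exact hw'
    exfalso
    rw [hXi y hy hy1] at hwy
    obtain ⟨u, hu, hue⟩ := hconjW w'⁻¹ (inv_mem hw')
    have hgi : g * g = u * i₀ * u⁻¹ := by
      rw [hue, hwy, ← hinvW i₀ hi₀X hi₀1 w' hw']
      rw [show i₀ * (i₀ * w' * i₀) = i₀ * i₀ * (w' * i₀) by group, hi₀2, one_mul]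
    have hgc : Commute (u⁻¹ * g * u) i₀ := by
      show u⁻¹ * g * u * i₀ = i₀ * (u⁻¹ * g * u)
      calc u⁻¹ * g * u * i₀ = u⁻¹ * (g * (u * i₀ * u⁻¹)) * u := by group
        _ = u⁻¹ * ((u * i₀ * u⁻¹) * g) * u := by rw [← hgi, mul_assoc g g g]
        _ = _ := by group
    have h1 := hV2 _ (hC i₀ hi₀X hi₀1 hi₀2 _ (mul_mem (mul_mem (inv_mem hu) hg) hu) hgc)
    rw [show u⁻¹ * g * u * (u⁻¹ * g * u) = u⁻¹ * (g * g) * u by group, hgi,
      show u⁻¹ * (u * i₀ * u⁻¹) * u = i₀ by group] at h1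
    exact hi₀1 h1
  -- Thompson transfer
  obtain ⟨M, hWM, hMU, hi₀M, hM2⟩ :=
    hU.exists_relIndex_two (W := W) (fun w hw => hw.1) (hXU _ hi₀X) hi₀W hsqW
  obtain ⟨P, hUP⟩ := hP.exists_le_sylow
  have hPU : (P : Subgroup G) ≤ U := by
    obtain ⟨c, hc⟩ := P.isPGroup'.nonempty_fixed_point_of_prime_not_dvd_card Ω
      (by rw [← even_iff_two_dvd, Nat.not_even_iff_odd]; exact hv)
    obtain ⟨y, hy, hy1⟩ := hU.Aat_ne_bot hv a
    have hca : c = a := hU.Aat_eq hy hy1 (hc ⟨y, hUP (hAU y hy)⟩)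
    subst hca
    intro g hg
    obtain ⟨k, hk⟩ := P.isPGroup' ⟨g, hg⟩
    exact hU.mem_U_of_eq (hU.two_mem (hc ⟨g, hg⟩) (congrArg Subtype.val hk))
  have hPeq : (P : Subgroup G) = U := le_antisymm hPU hUP
  obtain ⟨g, hgM⟩ := CfsgLib.Small.thompson_transfer_sylow (fun H hH => by
      haveI := Subgroup.normal_of_index_eq_two hH
      rcases (inferInstance : H.Normal).eq_bot_or_eq_top with h | h
      · rw [h, Subgroup.index_bot] at hH
        have := Subgroup.card_le_card_group A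
        omega
      · rw [h, Subgroup.index_top] at hH
        omega) P M (hPeq ▸ hMU) (hPeq ▸ hM2)
    (orderOf_eq_prime (by rw [pow_two, hi₀2]) hi₀1 : orderOf i₀ = 2)
  -- the conjugate fixes two points, so it lies in `i₀ W`
  have hfa : (g⁻¹ * i₀ * g) • g⁻¹ • a = g⁻¹ • a := by
    rw [mul_smul, mul_smul, smul_inv_smul, hU.le (hXU _ hi₀X)]
  have hfb : (g⁻¹ * i₀ * g) • g⁻¹ • b = g⁻¹ • b := by
    rw [mul_smul, mul_smul, smul_inv_smul, hXb _ hi₀X]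
  have hi1 : g⁻¹ * i₀ * g ≠ 1 := fun h => hi₀1 (by
    rw [show i₀ = g * (g⁻¹ * i₀ * g) * g⁻¹ by group, h]; group)
  have hnA : g⁻¹ * i₀ * g ∉ A := hU.not_central hi1
    (fun h => hb ((smul_left_cancel_iff g⁻¹).1 h).symm) hfa hfb
  obtain ⟨u, hu, hX'⟩ := hconjX _ (hMU hgM) (by
    rw [show g⁻¹ * i₀ * g * (g⁻¹ * i₀ * g) = g⁻¹ * (i₀ * i₀) * g by group, hi₀2]; group) hnA
  have hu' : u * i₀ * u⁻¹ = g⁻¹ * i₀ * g := by
    nth_rewrite 1 [← hXi _ hX' (fun h => hi1 (by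
      rw [show g⁻¹ * i₀ * g = u * (u⁻¹ * (g⁻¹ * i₀ * g) * u) * u⁻¹ by group, h]; group))]
    group
  obtain ⟨w, hw, hwe⟩ := hall u hu
  have := mul_mem hgM (inv_mem (hWM hw))
  rw [← hu', hwe, mul_inv_cancel_right] at this
  exact hi₀M this

/-- **Regularity.** `U` acts regularly on the points other than `a`. -/
theorem Xat_eq_bot (hv : Odd (Nat.card Ω)) (hO : KernelTwo.{v}) {b : Ω} (hb : b ≠ a) :
    Xat a U a b = ⊥ :=
  hU.Xat_eq_bot_of_two hv (hU.isPGroup_two hv hO hb) hb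

end Split

end CfsgLib.SplitRankOne
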